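import Cfsg.Agent.Lib.Dim3Max.UOrth.LineGroup

/-!
The two small cases: the product of two flips at real points gives an element of the group on the line which
neither group contains.  Hence an overgroup without elations is not transitive on the isotropic points.
-/

set_option autoImplicit false
set_option linter.unusedSectionVars false

namespace CfsgLib.Dim3Max.UOrth

open scoped Matrix LinearAlgebra.Projectivization
open CfsgLib.Maximal CfsgLib.Maximal.UnFour CfsgLib.PSL2 CfsgLib.Classical MulAction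

universe u

variable {F : Type u} [Field F] [Fintype F] {q : ℕ} {τ : F ≃+* F} {F₀ : Subfield F} {P : GL (Fin 3) F}
  {c g w : Fin 3 → F} {M : Subgroup (GL (Fin 3) F)}

local notation "M3" => Matrix (Fin 3) (Fin 3) F
local notation "M2" => Matrix (Fin 2) (Fin 2) F

variable (hR : RFrame q τ F₀ P c g w) (hM : UOver F₀ P q M)
include hR

theorem flip_sq {v : Fin 3 → F} (hv : hf3 F q v v ≠ 0) : hR.flipV v hv * hR.flipV v hv = 1 := by
  have e : ∀ x, ((hR.flipV v hv * hR.flipV v hv : GL (Fin 3) F) : M3) *ᵥ x = x := fun x => by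
    have hf := hR.hf
    rw [Units.val_mul, ← Matrix.mulVec_mulVec, hR.flipV_mulVec, hR.flipV_mulVec, hf.add_left, hf.smul_left,
      show hf3 F q (-x) v = -hf3 F q x v by rw [← neg_one_smul F x, hf.smul_left]; ring]
    match_scalars <;> field_simp
    ring
  refine hR.ext ?_ ?_ ?_ <;> rw [e, Units.val_one, Matrix.one_mulVec]

include hM

set_option maxHeartbeats 800000 in
/-- An element of the group on the line with trace `t` and determinant one. -/
theorem rotation (hel : ¬ HasElation M) (hall : ∀ x ∈ isoPts F q, ∃ m : M, m • ptC hR = x)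
    {t : F₀} (ht : (t : F) + 2 ≠ 0) (ht' : (2 : F) - t ≠ 0) :
    ∃ k ks : stabW M w, ks * ks = 1 ∧ ks * k * ks = k⁻¹ ∧ lineP hR hM ks ≠ 1 ∧ lineP hR hM (k * ks) ≠ 1 ∧
      lineMat q c g ((k : M) : GL (Fin 3) F) * lineMat q c g ((k : M) : GL (Fin 3) F) =
        (t : F) • lineMat q c g ((k : M) : GL (Fin 3) F) - 1 ∧
      ∀ s : F, lineMat q c g ((k : M) : GL (Fin 3) F) ≠ s • (1 : M2) := by
  classical
  have hf := hR.hf
  have h2 := hR.two
  set ω := hf3 F q w w
  have hω : ω ≠ 0 := hR.frame.ww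
  set δ : F := ω * (2 - t) / (2 * (t + 2)) with hδ
  have h2m : (2 : F) ∈ F₀ := by rw [← one_add_one_eq_two]; exact F₀.add_mem F₀.one_mem F₀.one_mem
  have hδm : δ ∈ F₀ := F₀.div_mem (F₀.mul_mem hR.om (F₀.sub_mem h2m t.2)) (F₀.mul_mem h2m (F₀.add_mem t.2 h2m))
  have hδ0 : δ ≠ 0 := div_ne_zero (mul_ne_zero hω ht') (mul_ne_zero h2 ht)
  have hτδ : τ δ = δ := hR.tau hδm
  set z : Fin 3 → F := c + δ • g with hz
  set u2 : Fin 3 → F := w + z with hu
  set v0 : Fin 3 → F := c + (-δ) • g with hv0'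
  have hrz : Rl F₀ P z := hR.rc.add (hR.rg.smul hδm)
  have hru : Rl F₀ P u2 := hR.rw.add hrz
  have hrv : Rl F₀ P v0 := hR.rc.add (hR.rg.smul (F₀.neg_mem hδm))
  have evals : hf3 F q z w = 0 ∧ hf3 F q w z = 0 ∧ hf3 F q z z = 2 * δ ∧ hf3 F q v0 v0 = -(2 * δ) ∧
      hf3 F q v0 w = 0 ∧ hf3 F q w v0 = 0 ∧ hf3 F q v0 z = 0 ∧ hf3 F q z v0 = 0 := by
    simp only [hz, hv0', hf.add_left, un_add_right hf, hf.smul_left, un_smul_right hf, hR.frame.cc, hR.frame.gg,
      hR.frame.gc, hR.gc', hR.frame.wc, hR.frame.wg, hR.cw, hR.gw, map_neg, hτδ, mul_zero, add_zero, zero_add, mul_one]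
    refine ⟨trivial, trivial, ?_, ?_, trivial, trivial, ?_, ?_⟩ <;> ring
  obtain ⟨ezw, ewz, ezz, evv, evw, ewv, evz, ezv⟩ := evals
  have huu : hf3 F q u2 u2 = 4 * ω / (t + 2) := by
    simp only [hu, hf.add_left, un_add_right hf, ezw, ewz, ezz]
    rw [hδ]
    field_simp
    ring
  have huu0 : hf3 F q u2 u2 ≠ 0 := by
    rw [huu, show (4 : F) = 2 * 2 by norm_num]
    exact div_ne_zero (mul_ne_zero (mul_ne_zero h2 h2) hω) ht
  have hvv0 : hf3 F q v0 v0 ≠ 0 := by rw [evv]; exact neg_ne_zero.2 (mul_ne_zero h2 hδ0)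
  set fw := hR.flipV w hω with hfw
  set fu := hR.flipV u2 huu0 with hfu
  set R := fu * fw with hRdef
  have hfwM : fw ∈ M := hM.ge (hR.flipV_mem_H _ hR.rw)
  have hfuM : fu ∈ M := hM.ge (hR.flipV_mem_H _ hru)
  have hRM : R ∈ M := mul_mem hfuM hfwM
  have h4 : (4 : F) ≠ 0 := by rw [show (4 : F) = 2 * 2 by norm_num]; exact mul_ne_zero h2 h2
  have fw1 : (fw : M3) *ᵥ w = w := by
    rw [hfw, hR.flipV_mulVec, div_mul_cancel₀ _ hω]
    module
  have fw2 : (fw : M3) *ᵥ z = -z := by rw [hfw, hR.flipV_mulVec, ezw]; simp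
  have fw3 : (fw : M3) *ᵥ v0 = -v0 := by rw [hfw, hR.flipV_mulVec, evw]; simp
  have fu3 : (fu : M3) *ᵥ v0 = -v0 := by
    rw [hfu, hR.flipV_mulVec, show hf3 F q v0 u2 = 0 by rw [hu, un_add_right hf, evw, evz, add_zero]]; simp
  have fu1 : (fu : M3) *ᵥ w = ((t : F) / 2) • w + ((t + 2 : F) / 2) • z := by
    rw [hfu, hR.flipV_mulVec, show hf3 F q w u2 = ω by rw [hu, un_add_right hf, ewz, add_zero], huu, hu]
    match_scalars <;> field_simp <;> ring
  have fu2 : (fu : M3) *ᵥ z = ((2 - t : F) / 2) • w + (-(t : F) / 2) • z := by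
    rw [hfu, hR.flipV_mulVec, show hf3 F q z u2 = 2 * δ by rw [hu, un_add_right hf, ezw, ezz, zero_add], huu, hu, hδ]
    match_scalars <;> field_simp <;> ring
  have R3 : (R : M3) *ᵥ v0 = v0 := by
    rw [hRdef, Units.val_mul, ← Matrix.mulVec_mulVec, fw3, Matrix.mulVec_neg, fu3, neg_neg]
  have R1 : (R : M3) *ᵥ w = ((t : F) / 2) • w + ((t + 2 : F) / 2) • z := by
    rw [hRdef, Units.val_mul, ← Matrix.mulVec_mulVec, fw1, fu1]
  have R2 : (R : M3) *ᵥ z = ((t - 2 : F) / 2) • w + ((t : F) / 2) • z := by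
    rw [hRdef, Units.val_mul, ← Matrix.mulVec_mulVec, fw2, Matrix.mulVec_neg, fu2]
    match_scalars <;> ring
  -- an element moving the point of `w` to that of `v0`
  obtain ⟨β, hβ0, hβ⟩ := Herm.norm_exists hf (a := w) (b := z) hω (by rw [ezz]; exact mul_ne_zero h2 hδ0) ezw
  have hx0 : z + β • w ≠ 0 := fun h0 => by
    have := congrArg (fun y => hf3 F q y z) h0
    simp only [hf.add_left, hf.smul_left, ezz, ewz, un_zero_left hf, mul_zero, add_zero] at this
    exact mul_ne_zero h2 hδ0 this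
  have hxv : hf3 F q (z + β • w) v0 = 0 := by
    rw [hf.add_left, hf.smul_left, ezv, ewv, mul_zero, add_zero]
  obtain ⟨m, -, b, hb, hmw⟩ := move hR hM hel hall hvv0 (hM.ge (hR.flipV_mem_H _ hrv)) hx0 hβ hxv
  set G : GL (Fin 3) F := (m : GL (Fin 3) F)
  have hG : ∀ y, ((G⁻¹ : GL (Fin 3) F) : M3) *ᵥ ((G : M3) *ᵥ y) = y := fun y => by
    rw [Matrix.mulVec_mulVec, ← Units.val_mul, inv_mul_cancel, Units.val_one, Matrix.one_mulVec]
  have hG' : ∀ y, (G : M3) *ᵥ (((G⁻¹ : GL (Fin 3) F) : M3) *ᵥ y) = y := fun y => by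
    rw [Matrix.mulVec_mulVec, ← Units.val_mul, mul_inv_cancel, Units.val_one, Matrix.one_mulVec]
  have conj_w : ∀ (N : GL (Fin 3) F) (r : F), (N : M3) *ᵥ v0 = r • v0 →
      ((G⁻¹ * N * G : GL (Fin 3) F) : M3) *ᵥ w = r • w := fun N r h => by
    rw [Units.val_mul, Units.val_mul, ← Matrix.mulVec_mulVec, ← Matrix.mulVec_mulVec, hmw, Matrix.mulVec_smul, h,
      smul_comm, ← hmw, Matrix.mulVec_smul, hG]
  -- no scalar on the line
  have nonscalar : ∀ (N : GL (Fin 3) F) (hN : G⁻¹ * N * G ∈ M) (r : F) (hr : r ≠ 0)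
      (hv : (N : M3) *ᵥ v0 = r • v0) (s : F),
      lineMat q c g (G⁻¹ * N * G) = s • (1 : M2) → (N : M3) *ᵥ w = s • w ∧ (N : M3) *ᵥ z = s • z := by
    intro N hN r hr hv s hs
    have hw0 := conj_w N r hv
    obtain ⟨K, hK⟩ : ∃ K, K = G⁻¹ * N * G := ⟨_, rfl⟩
    rw [← hK] at hN hs hw0
    have hk : (⟨K, hN⟩ : M) ∈ stabW M w := ⟨r, hr, hw0⟩
    have key : ∀ y, hf3 F q y w = 0 → (K : M3) *ᵥ y = s • y := fun y hy => by
      have h00 := congrFun (congrFun hs 0) 0
      have h01 := congrFun (congrFun hs 0) 1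
      have h10 := congrFun (congrFun hs 1) 0
      have h11 := congrFun (congrFun hs 1) 1
      simp [lineMat] at h00 h01 h10 h11
      have ec : (K : M3) *ᵥ c = s • c := by
        have e := line_expand hR hM hk hR.cw
        simp only [h00, h10, zero_smul, add_zero] at e
        simpa using e
      have eg : (K : M3) *ᵥ g = s • g := by
        have e := line_expand hR hM hk hR.gw
        simp only [h01, h11, zero_smul, zero_add] at e
        simpa using e
      rw [hR.expand y, hy, zero_div, zero_smul, add_zero, Matrix.mulVec_add, Matrix.mulVec_smul, Matrix.mulVec_smul,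
        ec, eg]
      module
    have back : ∀ x, hf3 F q x v0 = 0 → (N : M3) *ᵥ x = s • x := fun x hx => by
      have hy : hf3 F q (((G⁻¹ : GL (Fin 3) F) : M3) *ᵥ x) w = 0 := by
        rw [← hM.iso m.2, hG', hmw, un_smul_right hf, hx, mul_zero]
      have h := congrArg ((G : M3) *ᵥ ·) (key _ hy)
      simp only [hK, Units.val_mul, ← Matrix.mulVec_mulVec, hG', Matrix.mulVec_smul] at h
      exact h
    exact ⟨back w ewv, back z ezv⟩
  have hkM : G⁻¹ * R * G ∈ M := mul_mem (mul_mem (inv_mem m.2) hRM) m.2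
  have hsM : G⁻¹ * fw * G ∈ M := mul_mem (mul_mem (inv_mem m.2) hfwM) m.2
  have hR3' : (R : M3) *ᵥ v0 = (1 : F) • v0 := by rw [R3, one_smul]
  have hfw3 : (fw : M3) *ᵥ v0 = (-1 : F) • v0 := by rw [fw3, neg_one_smul]
  have hfu3 : (fu : M3) *ᵥ v0 = (-1 : F) • v0 := by rw [fu3, neg_one_smul]
  let k : stabW M w := ⟨⟨_, hkM⟩, 1, one_ne_zero, conj_w R 1 hR3'⟩
  let ks : stabW M w := ⟨⟨_, hsM⟩, -1, neg_ne_zero.2 one_ne_zero, conj_w fw (-1) hfw3⟩
  have esq := flip_sq hR hω
  have esq' := flip_sq hR huu0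
  have hne : (1 : F) ≠ -1 := fun h => h2 (by linear_combination h)
  have ht2 : ((t : F) + 2) / 2 ≠ 0 := div_ne_zero ht h2
  refine ⟨k, ks, ?_, ?_, ?_, ?_, ?_, ?_⟩
  · refine Subtype.ext (Subtype.ext ?_)
    show G⁻¹ * fw * G * (G⁻¹ * fw * G) = 1
    rw [show G⁻¹ * fw * G * (G⁻¹ * fw * G) = G⁻¹ * (fw * fw) * G by group, esq]
    group
  · refine Subtype.ext (Subtype.ext ?_)
    show G⁻¹ * fw * G * (G⁻¹ * R * G) * (G⁻¹ * fw * G) = (G⁻¹ * R * G)⁻¹
    rw [show G⁻¹ * fw * G * (G⁻¹ * R * G) * (G⁻¹ * fw * G) = G⁻¹ * fw * (fu * (fw * fw)) * G by rw [hRdef]; group,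
      esq, mul_one, show (G⁻¹ * R * G)⁻¹ = G⁻¹ * fw⁻¹ * fu⁻¹ * G by rw [hRdef]; group,
      inv_eq_of_mul_eq_one_right esq, inv_eq_of_mul_eq_one_right esq', mul_assoc G⁻¹ fw fu]
  · intro h
    obtain ⟨s, hs⟩ := scalar_of hR hM h
    obtain ⟨hw', hz'⟩ := nonscalar fw hsM (-1) (neg_ne_zero.2 one_ne_zero) hfw3 s hs
    have h1 := congrArg (fun y => hf3 F q y w) (fw1.symm.trans hw')
    simp only [hf.smul_left] at h1
    have hs1 : s = 1 := (mul_right_cancel₀ hω ((one_mul _).trans h1)).symm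
    have h3 := congrArg (fun y => hf3 F q y z) (fw2.symm.trans hz')
    simp only [← neg_one_smul F z, hf.smul_left, hs1, ezz] at h3
    exact hne (mul_right_cancel₀ (mul_ne_zero h2 hδ0) h3).symm
  · intro h
    obtain ⟨s, hs⟩ := scalar_of hR hM h
    have he : ((((k * ks : stabW M w) : M)) : GL (Fin 3) F) = G⁻¹ * fu * G := by
      show G⁻¹ * R * G * (G⁻¹ * fw * G) = _
      rw [show G⁻¹ * R * G * (G⁻¹ * fw * G) = G⁻¹ * (fu * (fw * fw)) * G by rw [hRdef]; group, esq, mul_one]
    rw [he] at hs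
    obtain ⟨hw', -⟩ := nonscalar fu (mul_mem (mul_mem (inv_mem m.2) hfuM) m.2) (-1) (neg_ne_zero.2 one_ne_zero)
      hfu3 s hs
    have h1 := congrArg (fun y => hf3 F q y z) (fu1.symm.trans hw')
    simp only [hf.add_left, hf.smul_left, ewz, ezz, mul_zero, zero_add] at h1
    exact mul_ne_zero ht2 (mul_ne_zero h2 hδ0) h1
  · have hquad : ∀ y, hf3 F q y w = 0 →
        ((G⁻¹ * R * G : GL (Fin 3) F) : M3) *ᵥ (((G⁻¹ * R * G : GL (Fin 3) F) : M3) *ᵥ y) =
          (t : F) • (((G⁻¹ * R * G : GL (Fin 3) F) : M3) *ᵥ y) - y := by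
      intro y hy
      have hx : hf3 F q ((G : M3) *ᵥ y) v0 = 0 := by
        have e := hM.iso m.2 y w
        rw [hmw, un_smul_right hf, hy] at e
        exact (mul_eq_zero.1 e).resolve_left fun h0 => hb (τ.injective (by rw [h0, map_zero]))
      simp only [Units.val_mul, ← Matrix.mulVec_mulVec, hG']
      set x := (G : M3) *ᵥ y with hxdef
      have hyx : y = ((G⁻¹ : GL (Fin 3) F) : M3) *ᵥ x := (hG y).symm
      rw [hyx, ← Matrix.mulVec_smul, ← Matrix.mulVec_sub]
      congr 1
      have hexp : x = hf3 F q x g • z + (hf3 F q x w / ω) • w := by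
        have hδx : hf3 F q x c = δ * hf3 F q x g := by
          rw [hv0', un_add_right hf, un_smul_right hf, map_neg, hτδ] at hx
          linear_combination hx
        conv_lhs => rw [hR.expand x, hδx]
        rw [hz]
        module
      rw [hexp]
      simp only [Matrix.mulVec_add, Matrix.mulVec_smul, R1, R2]
      match_scalars <;> field_simp <;> ring
    have key : ∀ y x, hf3 F q y w = 0 →
        hf3 F q (((G⁻¹ * R * G : GL (Fin 3) F) : M3) *ᵥ (((G⁻¹ * R * G : GL (Fin 3) F) : M3) *ᵥ y)) x =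
          (t : F) * hf3 F q (((G⁻¹ * R * G : GL (Fin 3) F) : M3) *ᵥ y) x - hf3 F q y x := fun y x hy => by
      rw [hquad y hy, Herm.sub_left hf, hf.smul_left]
    have hmul := congrArg (fun h : GL (Fin 2) F => (h : M2)) (map_mul (lineHom hR hM) k k)
    simp only [Units.val_mul, lineHom_val] at hmul
    rw [← hmul]
    ext i j
    fin_cases i <;> fin_cases j <;>
      simp [lineMat, k, ← Matrix.mulVec_mulVec] at * <;>
      simp [← Matrix.mulVec_mulVec, key _ _ hR.cw, key _ _ hR.gw, hR.frame.cc, hR.frame.gg, hR.frame.gc, hR.gc']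
  · intro s hs
    obtain ⟨hw', -⟩ := nonscalar R hkM 1 one_ne_zero hR3' s hs
    have h1 := congrArg (fun y => hf3 F q y z) (R1.symm.trans hw')
    simp only [hf.add_left, hf.smul_left, ewz, ezz, mul_zero, zero_add] at h1
    exact mul_ne_zero ht2 (mul_ne_zero h2 hδ0) h1

/-- An overgroup without elations is not transitive on the isotropic points. -/
theorem not_transitive {p : ℕ} [Fact p.Prime] [CharP F p] (hq : Nat.card F₀ = q) (hF : Fintype.card F = q ^ 2)
    (hq7 : 7 ≤ q) (hel : ¬ HasElation M) (hall : ∀ x ∈ isoPts F q, ∃ m : M, m • ptC hR = x) : False := by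
  classical
  have hpp : p.Prime := Fact.out
  have hpq : p ∣ q := by
    obtain ⟨n, hn⟩ := FiniteField.card F p
    refine hpp.dvd_of_dvd_pow (n := 2) ?_
    rw [← hF, hn.2]
    exact dvd_pow_self p n.pos.ne'
  have hnum : ∀ {r : ℕ} [Fact r.Prime], p = r → ∀ n : ℕ, ¬ r ∣ n → (n : F) ≠ 0 := fun {r} _ hr n hn h =>
    hn (hr ▸ (CharP.cast_eq_zero_iff F p n).1 h)
  rcases small_cases hR hM (p := p) hq hF hq7 hel hall with ⟨hqv, ⟨e⟩⟩ | ⟨hqv, ⟨e⟩⟩
  · have hp7 : p = 7 := (Nat.prime_dvd_prime_iff_eq hpp (by norm_num)).1 (hqv ▸ hpq)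
    haveI : Fact (Nat.Prime 7) := ⟨by norm_num⟩
    have h7 : (7 : F) = 0 := by simpa [hp7] using CharP.cast_eq_zero F p
    have h5 : (5 : F) ≠ 0 := by simpa using hnum hp7 5 (by norm_num)
    have h3m : (3 : F) ∈ F₀ := by simpa using natCast_mem F₀ 3
    obtain ⟨k, ks, hss, hinv, hs1, hrs1, hA, hns⟩ := rotation hR hM hel hall (t := ⟨3, h3m⟩)
      (by show (3 : F) + 2 ≠ 0; rw [show (3 : F) + 2 = 5 by norm_num]; exact h5)
      (by show (2 : F) - 3 ≠ 0; norm_num)
    set A := lineMat q c g ((k : M) : GL (Fin 3) F) with hAdef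
    change A * A = (3 : F) • A - 1 at hA
    have hA4 : A * A * (A * A) = -1 := by
      rw [hA]
      simp only [mul_sub, sub_mul, smul_mul_assoc, mul_smul_comm, hA, mul_one, one_mul, smul_sub, smul_smul]
      match_scalars
      · linear_combination 3 * h7
      · linear_combination -h7
    let φ : stabW M w →* Equiv.Perm (Fin 4) := e.toMonoidHom.comp (lineP hR hM).rangeRestrict
    have hφ : ∀ h, φ h = 1 ↔ lineP hR hM h = 1 := fun h => by
      show e ((lineP hR hM).rangeRestrict h) = 1 ↔ _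
      rw [map_eq_one_iff e e.injective]
      exact Subtype.ext_iff
    have hk2 : lineP hR hM (k * k) ≠ 1 := fun h => by
      obtain ⟨s, hs⟩ := scalar_of hR hM h
      have hmul := congrArg (fun h : GL (Fin 2) F => (h : M2)) (map_mul (lineHom hR hM) k k)
      simp only [Units.val_mul, lineHom_val] at hmul
      rw [hmul, ← hAdef, hA, sub_eq_iff_eq_add] at hs
      refine hns ((s + 1) / 3) (smul_right_injective M2 (show (3 : F) ≠ 0 by simpa using hnum hp7 3 (by norm_num)) ?_)
      show (3 : F) • A = (3 : F) • _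
      rw [hs, smul_smul, mul_div_cancel₀ _ (show (3 : F) ≠ 0 by simpa using hnum hp7 3 (by norm_num)), add_smul,
        one_smul]
    have hk4 : lineP hR hM (k * k * (k * k)) = 1 := by
      refine one_of hR hM (s := -1) ?_
      have hmul := congrArg (fun h : GL (Fin 2) F => (h : M2)) (map_mul (lineHom hR hM) (k * k) (k * k))
      simp only [Units.val_mul, lineHom_val] at hmul
      have hmul2 := congrArg (fun h : GL (Fin 2) F => (h : M2)) (map_mul (lineHom hR hM) k k)
      simp only [Units.val_mul, lineHom_val] at hmul2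
      rw [hmul, hmul2, ← hAdef, hA4, neg_one_smul]
    obtain ⟨x, hx⟩ := s4_conj (φ k) (φ ks)
      (by rw [← (hφ _).2 hk4, map_mul, map_mul]; simp only [pow_succ, pow_zero, one_mul, mul_assoc])
      (fun h => hk2 ((hφ _).1 (by rw [map_mul, ← pow_two]; exact h)))
      (by rw [pow_two, ← map_mul, hss, map_one])
      (by rw [← map_mul, ← map_mul, hinv, map_inv])
      (fun h => hs1 ((hφ _).1 h)) (fun h => hrs1 ((hφ _).1 (by rw [map_mul]; exact h)))
    obtain ⟨kx, rfl⟩ : ∃ kx, φ kx = x :=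
      (e.surjective.comp (lineP hR hM).rangeRestrict_surjective) x
    obtain ⟨i, hii, hi⟩ : ∃ i, i * i = 1 ∧ φ (kx * i * kx⁻¹) = φ (k * k) := by
      rcases hx with hx | hx
      · exact ⟨ks, hss, by rw [map_mul, map_mul, map_inv, map_mul, ← pow_two]; exact hx⟩
      · refine ⟨k * ks, ?_, by rw [map_mul, map_mul, map_mul, map_inv, map_mul, ← pow_two]; exact hx⟩
        rw [show k * ks * (k * ks) = k * (ks * k * ks) by group, hinv, mul_inv_cancel]
    set j := (k * k)⁻¹ * (kx * i * kx⁻¹)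
    have hj : lineP hR hM j = 1 := (hφ _).1 (by rw [map_mul, map_inv, hi, inv_mul_cancel])
    obtain ⟨α, hα, hαj⟩ := kernel_scalar hR hM hel hj
    have hy : k * k * j * (k * k * j) = 1 := by
      simp only [j, mul_inv_cancel_left]
      rw [show kx * i * kx⁻¹ * (kx * i * kx⁻¹) = kx * (i * i) * kx⁻¹ by group, hii]
      group
    have h := congrArg (fun h : stabW M w => ((lineHom hR hM h : GL (Fin 2) F) : M2)) hy
    simp only [map_mul, map_one, Units.val_mul, Units.val_one, lineHom_val, hαj, ← hAdef,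
      mul_smul_comm, smul_mul_assoc, mul_one, smul_smul, hA4] at h
    have h00 := congrFun (congrFun h 0) 0
    simp at h00
    rw [show α ^ 2 = -1 by linear_combination -h00] at hα
    exact hR.two (by linear_combination -hα)
  · have hp11 : p = 11 := (Nat.prime_dvd_prime_iff_eq hpp (by norm_num)).1 (hqv ▸ hpq)
    haveI : Fact (Nat.Prime 11) := ⟨by norm_num⟩
    have h11 : (11 : F) = 0 := by simpa [hp11] using CharP.cast_eq_zero F p
    have h5m : (5 : F) ∈ F₀ := by simpa using natCast_mem F₀ 5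
    obtain ⟨k, ks, -, -, -, -, hA, hns⟩ := rotation hR hM hel hall (t := ⟨5, h5m⟩)
      (by show (5 : F) + 2 ≠ 0; rw [show (5 : F) + 2 = 7 by norm_num]; simpa using hnum hp11 7 (by norm_num))
      (by show (2 : F) - 5 ≠ 0; rw [show (2 : F) - 5 = -3 by norm_num, neg_ne_zero];
          simpa using hnum hp11 3 (by norm_num))
    set A := lineMat q c g ((k : M) : GL (Fin 3) F) with hAdef
    change A * A = (5 : F) • A - 1 at hA
    have hA3 : A * A * A = (2 : F) • A - (5 : F) • 1 := by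
      rw [hA]
      simp only [sub_mul, smul_mul_assoc, hA, one_mul, smul_sub, smul_smul]
      match_scalars
      · linear_combination 2 * h11
      · ring
    have hcomb : ∀ a b r : F, a ≠ 0 → a • A - b • (1 : M2) = r • 1 → False := fun a b r ha h => by
      refine hns ((r + b) / a) (smul_right_injective M2 ha ?_)
      show a • A = a • _
      rw [sub_eq_iff_eq_add] at h
      rw [h, smul_smul, mul_div_cancel₀ _ ha, add_smul]
    have hP : ∀ h h' : stabW M w, lineMat q c g (((h * h' : stabW M w) : M) : GL (Fin 3) F) =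
        lineMat q c g ((h : M) : GL (Fin 3) F) * lineMat q c g ((h' : M) : GL (Fin 3) F) := fun h h' => by
      have := congrArg (fun h : GL (Fin 2) F => (h : M2)) (map_mul (lineHom hR hM) h h')
      simpa only [Units.val_mul, lineHom_val] using this
    have h6 : lineP hR hM (k ^ 6) = 1 := by
      refine one_of hR hM (s := -1) ?_
      rw [show k ^ 6 = k * k * k * (k * k * k) by simp only [pow_succ, pow_zero, one_mul, mul_assoc], hP, hP, hP, ← hAdef, hA3]
      simp only [mul_sub, sub_mul, smul_mul_assoc, mul_smul_comm, hA, mul_one, one_mul, smul_sub, smul_smul]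
      match_scalars
      · ring
      · linear_combination 2 * h11
    let φ : stabW M w →* alternatingGroup (Fin 5) := e.toMonoidHom.comp (lineP hR hM).rangeRestrict
    have hφ : ∀ h, φ h = 1 ↔ lineP hR hM h = 1 := fun h => by
      show e ((lineP hR hM).rangeRestrict h) = 1 ↔ _
      rw [map_eq_one_iff e e.injective]
      exact Subtype.ext_iff
    have h6' : ((φ k : alternatingGroup (Fin 5)) : Equiv.Perm (Fin 5)) ^ 6 = 1 := by
      rw [← Subgroup.coe_pow, ← map_pow, (hφ _).2 h6]; rfl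
    rcases a5_no_six _ (Equiv.Perm.mem_alternatingGroup.1 (φ k).2) h6' with h | h
    · rw [← Subgroup.coe_pow, ← map_pow, OneMemClass.coe_eq_one, hφ, pow_two] at h
      obtain ⟨s, hs⟩ := scalar_of hR hM h
      rw [hP, ← hAdef, hA] at hs
      exact hcomb 5 1 s (by simpa using hnum hp11 5 (by norm_num)) (by rw [one_smul]; exact hs)
    · rw [← Subgroup.coe_pow, ← map_pow, OneMemClass.coe_eq_one, hφ, show k ^ 3 = k * k * k by simp only [pow_succ, pow_zero, one_mul]] at h
      obtain ⟨s, hs⟩ := scalar_of hR hM h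
      rw [hP, hP, ← hAdef, hA3] at hs
      exact hcomb 2 5 _ hR.two hs

end CfsgLib.Dim3Max.UOrth
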