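import Mathlib

/-!
The two possible sizes of the orbit of a real isotropic point.
-/

set_option autoImplicit false

namespace CfsgLib.Dim3Max.UOrth

/-- The orbit sizes to be tested for small `q`. -/
def okSize (q n : ℕ) : Bool :=
  decide (q < 7) || decide (q % 2 = 0) || decide (n = 0) ||
    decide (((q + 1) * (q ^ 3 + 1)) % (q + 1 + n * (q * (q - 1) / 2)) ≠ 0) ||
    decide (q ^ 3 + 1 ≤ q + 1 + n * (q * (q - 1) / 2))

theorem small_all : ((List.range 18).all fun q => (List.range 37).all fun n => okSize q n) = true := by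
  decide +kernel

theorem orbit_size {q h n O : ℕ} (hq : 7 ≤ q) (hodd : q % 2 = 1) (hh : 2 * h = q * (q - 1))
    (hO : O = q + 1 + n * h) (hle : O ≤ q ^ 3 + 1) (hdvd : O ∣ (q + 1) * (q ^ 3 + 1)) :
    n = 0 ∨ O = q ^ 3 + 1 := by
  by_cases hq18 : q < 18
  · have hhv : h = q * (q - 1) / 2 := by omega
    have hn36 : n < 37 := by
      by_contra hn
      have h1 : 37 * h ≤ n * h := Nat.mul_le_mul_right h (by omega)
      have h2 : q ^ 3 + 1 < q + 1 + 37 * h := by
        obtain ⟨r, rfl⟩ := Nat.exists_eq_add_of_le (show 1 ≤ q by omega)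
        simp only [Nat.add_sub_cancel_left] at hh
        have h5 : (2 + r) * ((1 + r) * r) ≤ 18 * ((1 + r) * r) := Nat.mul_le_mul_right _ (by omega)
        have h6 : (1 + r) ^ 3 = (2 + r) * ((1 + r) * r) + (1 + r) := by ring
        have h7 : 0 < (1 + r) * r := Nat.mul_pos (by omega) (by omega)
        omega
      omega
    have hok := small_all
    simp only [List.all_eq_true, List.mem_range] at hok
    have h3 := hok q hq18 n hn36
    simp only [okSize, ← hhv, ← hO, Bool.or_eq_true, decide_eq_true_eq] at h3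
    rcases h3 with (((h3 | h3) | h3) | h3) | h3
    · omega
    · omega
    · exact Or.inl h3
    · exact absurd (Nat.dvd_iff_mod_eq_zero.1 hdvd) h3 
    · exact Or.inr (by omega)
  obtain ⟨Y, hY⟩ := hdvd
  have hh' : (2 : ℤ) * h = q * (q - 1) := by
    have := congrArg (fun x : ℕ => (x : ℤ)) hh
    simpa [Nat.cast_sub (show 1 ≤ q by omega)] using this
  have hOZ : (O : ℤ) = q + 1 + n * h := by rw [hO]; push_cast; ring
  have hYZ : ((q : ℤ) + 1) * (q ^ 3 + 1) = O * Y := by exact_mod_cast hY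
  have hqY : q + 1 ≤ Y := by
    refine Nat.le_of_mul_le_mul_left ?_ (show 0 < q ^ 3 + 1 by omega)
    calc (q ^ 3 + 1) * (q + 1) = O * Y := by rw [mul_comm, hY]
      _ ≤ (q ^ 3 + 1) * Y := Nat.mul_le_mul_right Y hle
  obtain ⟨D, rfl⟩ := Nat.exists_eq_add_of_le hqY
  push_cast at hYZ
  rw [hOZ] at hYZ
  -- `h` divides `2 D`
  have key : ((q : ℤ) + 1) * D = h * (2 * (q + 1) ^ 2 - n * (q + 1) - n * D) := by
    linear_combination -hYZ - ((q : ℤ) + 1) ^ 2 * hh'
  obtain ⟨t, ht⟩ : ∃ t : ℤ, (q : ℤ) = 2 * t + 1 := ⟨((q / 2 : ℕ) : ℤ), by omega⟩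
  obtain ⟨m, hm⟩ : ∃ m : ℤ, 2 * (D : ℤ) = m * h := by
    -- `(q + 1) ((1 - q) / 2) + h = 1` up to a factor two
    have : ∃ u v : ℤ, u * (q + 1) + v * h = 2 ∨ u * (q + 1) + v * h = 1 := by
      refine ⟨-((q : ℤ) - 2), 2, Or.inl ?_⟩
      linear_combination hh'
    obtain ⟨u, v, huv⟩ := this
    rcases huv with huv | huv
    · exact ⟨u * (2 * (q + 1) ^ 2 - n * (q + 1) - n * D) + v * D,
        by linear_combination u * key - (D : ℤ) * huv⟩
    · exact ⟨2 * (u * (2 * (q + 1) ^ 2 - n * (q + 1) - n * D) + v * D),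
        by linear_combination 2 * u * key - 2 * (D : ℤ) * huv⟩
  have hhpos : (0 : ℤ) < h := by nlinarith
  have hm0 : 0 ≤ m := by
    by_contra hneg
    push Not at hneg
    have : m * (h : ℤ) < 0 := mul_neg_of_neg_of_pos hneg hhpos
    omega
  have e1 : ((q : ℤ) + 1) * (m + 2 * n) + n * m * h = 4 * (q + 1) ^ 2 := by
    refine mul_right_cancel₀ hhpos.ne' ?_
    linear_combination 2 * key - ((q : ℤ) + 1 + n * h) * hm
  obtain ⟨j, hj⟩ : ∃ j : ℤ, 2 * (n * m) = j * (q + 1) :=
    ⟨8 * (q + 1) - 2 * m - 4 * n - n * m * ((q : ℤ) - 2), by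
      linear_combination 2 * e1 - (n : ℤ) * m * hh'⟩
  have hj0 : j = 0 := by
    by_contra hne
    have hnm : 0 ≤ (n : ℤ) * m := mul_nonneg (Int.natCast_nonneg n) hm0
    have hjpos : 0 < j := by
      rcases lt_trichotomy j 0 with hl | hl | hl
      · nlinarith
      · exact absurd hl hne
      · exact hl
    have h1 : n * m * (h : ℤ) ≤ 4 * (q + 1) ^ 2 := by
      nlinarith [mul_nonneg (show (0 : ℤ) ≤ q + 1 by omega) (add_nonneg hm0 (mul_nonneg (by norm_num : (0 : ℤ) ≤ 2) (Int.natCast_nonneg n)))]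
    have h2 : ((q : ℤ) + 1) ≤ 2 * (n * m) := by rw [hj]; nlinarith
    have h3 : ((q : ℤ) + 1) * (q * (q - 1)) ≤ 16 * (q + 1) ^ 2 := by
      have : ((q : ℤ) + 1) * (h : ℤ) ≤ 2 * (n * m) * h := mul_le_mul_of_nonneg_right h2 hhpos.le
      nlinarith
    have h4 : (q : ℤ) * (q - 1) ≤ 16 * (q + 1) := by nlinarith
    have : (18 : ℤ) ≤ q := by omega
    nlinarith
  rw [hj0, zero_mul] at hj
  rcases mul_eq_zero.1 ((mul_eq_zero.1 hj).resolve_left (by norm_num)) with hn | hm'
  · exact Or.inl (by exact_mod_cast hn)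
  · right
    subst hm'
    have hD : D = 0 := by omega
    subst hD
    simp only [add_zero] at hY
    refine Nat.eq_of_mul_eq_mul_right (show 0 < q + 1 by omega) ?_
    rw [← hY, mul_comm]

end CfsgLib.Dim3Max.UOrth
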