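import Cfsg.Agent.Lib.Dim3Max.UOrth.Stab
import Cfsg.Agent.Lib.Dim3Max.UOrth.Arith
import Cfsg.Agent.Lib.Classical.UnitarySU

/-!
An overgroup without elations either keeps the real isotropic points or is transitive on all isotropic points.
-/

set_option autoImplicit false
set_option linter.unusedSectionVars false

namespace CfsgLib.Dim3Max.UOrth

open scoped Matrix LinearAlgebra.Projectivization
open CfsgLib.Maximal CfsgLib.Maximal.UnFour MulAction

universe u

variable {F : Type u} [Field F] [Fintype F] {q : ℕ} {τ : F ≃+* F} {F₀ : Subfield F} {P : GL (Fin 3) F}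
  {c g w : Fin 3 → F} {M : Subgroup (GL (Fin 3) F)}

local notation "M3" => Matrix (Fin 3) (Fin 3) F
local notation "PP" => ℙ F (Fin 3 → F)

theorem smul_mk_eq (k : GL (Fin 3) F) {x : Fin 3 → F} (hx : x ≠ 0) :
    k • Projectivization.mk F x hx = Projectivization.mk F ((k : M3) *ᵥ x) (mulVec_ne_zero k hx) := rfl

variable (hR : RFrame q τ F₀ P c g w)
include hR

/-- An element carrying the frame to real vectors carries real vectors to real vectors. -/
theorem real_map {k : GL (Fin 3) F} (h1 : Rl F₀ P ((k : M3) *ᵥ c)) (h2 : Rl F₀ P ((k : M3) *ᵥ w))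
    (h3 : Rl F₀ P ((k : M3) *ᵥ g)) {x : Fin 3 → F} (hx : Rl F₀ P x) : Rl F₀ P ((k : M3) *ᵥ x) := by
  obtain ⟨e1, e2, e3⟩ := hR.coord x hx
  rw [hR.expand x, Matrix.mulVec_add, Matrix.mulVec_add, Matrix.mulVec_smul, Matrix.mulVec_smul, Matrix.mulVec_smul]
  exact ((h1.smul e2).add (h2.smul (F₀.div_mem e3 hR.om))).add (h3.smul e1)

theorem Y_real (s : F₀) {x : Fin 3 → F} (hx : Rl F₀ P x) : Rl F₀ P ((hR.Y s : M3) *ᵥ x) := by
  refine real_map hR ?_ ?_ ?_ hx
  · rw [hR.Y_c]; exact hR.rc
  · rw [hR.Y_w]; exact hR.rw.add (hR.rc.smul (F₀.neg_mem (F₀.mul_mem s.2 hR.om)))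
  · rw [hR.Y_g]
    exact (hR.rg.add (hR.rw.smul s.2)).add
      (hR.rc.smul (F₀.div_mem (F₀.neg_mem (F₀.mul_mem (pow_mem s.2 2) hR.om))
        (by rw [← one_add_one_eq_two]; exact F₀.add_mem F₀.one_mem F₀.one_mem)))

theorem T_real {a : F₀} (ha : a ≠ 0) {x : Fin 3 → F} (hx : Rl F₀ P x) : Rl F₀ P ((hR.T a ha : M3) *ᵥ x) := by
  obtain ⟨h1, h2, h3⟩ := hR.T_apply ha
  refine real_map hR ?_ ?_ ?_ hx
  · rw [h1]; exact hR.rc.smul a.2
  · rw [h3]; exact hR.rw
  · rw [h2]; exact hR.rg.smul (F₀.inv_mem a.2)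

/-- The point of `c`. -/
def ptC : PP := Projectivization.mk F c (fun h0 => one_ne_zero (α := F) (by
  have h1 := hR.gc'
  rw [h0, un_zero_left hR.hf] at h1
  exact h1.symm))

omit hR in
/-- The point has a real representative. -/
def RealPt (F₀ : Subfield F) (P : GL (Fin 3) F) (p : PP) : Prop :=
  ∃ (x : Fin 3 → F) (hx : x ≠ 0), Rl F₀ P x ∧ Projectivization.mk F x hx = p

omit hR in
/-- The isotropic points. -/
def isoPts (F : Type u) [Field F] (q : ℕ) : Set (ℙ F (Fin 3 → F)) :=
  {p | hf3 F q p.rep p.rep = 0}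

theorem mk_mem_isoPts {x : Fin 3 → F} (hx : x ≠ 0) :
    Projectivization.mk F x hx ∈ isoPts F q ↔ hf3 F q x x = 0 := by
  obtain ⟨a, ha⟩ := Projectivization.exists_smul_eq_mk_rep F x hx
  show hf3 F q _ _ = 0 ↔ _
  rw [← ha, Units.smul_def, hR.hf.smul_left, un_smul_right hR.hf]
  simp [a.ne_zero]

theorem c_smul_ne (x : F × F) : x.2 • c + x.1 • w + g ≠ 0 := fun h0 => by
  have h1 := (hR.coef (α := x.2) (β := x.1) (δ := (1 : F))).2.2
  rw [one_smul, h0, un_zero_left hR.hf] at h1
  exact zero_ne_one h1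

/-- The point with coordinates `(β, α)`. -/
def ptB (x : F × F) : PP := Projectivization.mk F _ (c_smul_ne hR x)

/-- Every isotropic point is the point of `c` or has coordinates. -/
theorem iso_cases {p : PP} (hp : p ∈ isoPts F q) :
    p = ptC hR ∨ ∃ x : F × F, x.2 + τ x.2 = -(x.1 * τ x.1 * hf3 F q w w) ∧ p = ptB hR x := by
  have hf := hR.hf
  induction p using Projectivization.ind with
  | _ v hv =>
    rw [mk_mem_isoPts hR hv] at hp
    have he := hR.expand v
    set α := hf3 F q v g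
    set β := hf3 F q v w / hf3 F q w w
    set δ := hf3 F q v c
    have hiso : δ * τ α + α * τ δ + β * τ β * hf3 F q w w = 0 := by
      have h := hp
      rw [he] at h
      simp only [hf.add_left, un_add_right hf, hf.smul_left, un_smul_right hf, hR.frame.cc, hR.frame.gg,
        hR.frame.gc, hR.frame.wc, hR.frame.wg, hR.gc', hR.cw, hR.gw, mul_zero, add_zero, zero_add, mul_one] at h
      linear_combination h
    by_cases hδ : δ = 0
    · left
      rw [hδ, map_zero, zero_mul, mul_zero, zero_add, zero_add] at hiso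
      have hβ : β = 0 := by
        rcases mul_eq_zero.1 ((mul_eq_zero.1 hiso).resolve_right hR.frame.ww) with hb | hb
        · exact hb
        · exact τ.injective (by rw [map_zero]; exact hb)
      rw [ptC, Projectivization.mk_eq_mk_iff']
      exact ⟨α, by rw [he, hβ, hδ, zero_smul, zero_smul, add_zero, add_zero]⟩
    · right
      refine ⟨(β / δ, α / δ), ?_, ?_⟩
      · have hτδ : τ δ ≠ 0 := fun h => hδ (τ.injective (by rw [h, map_zero]))
        simp only [map_div₀]
        field_simp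
        linear_combination hiso
      · rw [ptB, Projectivization.mk_eq_mk_iff']
        refine ⟨δ, ?_⟩
        rw [he]
        simp only [smul_add, smul_smul, mul_div_cancel₀ _ hδ]

theorem card_isoPts_le (hq : Nat.card F₀ = q) (hF : Fintype.card F = q ^ 2) :
    Nat.card (isoPts F q) ≤ q ^ 3 + 1 := by
  classical
  have hf := hR.hf
  let S : Set (F × F) := {x | x.2 + τ x.2 = -(x.1 * τ x.1 * hf3 F q w w)}
  obtain ⟨k, hk0, hk⟩ := un_skew_exists hf
  have hex : ∀ β : F, ∃ γ, γ + τ γ = -(β * τ β * hf3 F q w w) := fun β => exists_tr_eq hf (by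
    rw [map_neg, map_mul, map_mul, hf.involutive, fix_self hf, mul_comm (τ β)])
  choose γ hγ using hex
  let φ : S → F × F₀ := fun x => (x.1.1, ⟨(x.1.2 - γ x.1.1) / k, (hR.fixed _).2 (by
    have e : x.1.2 + τ x.1.2 = _ := x.2
    rw [map_div₀, map_sub, hk, div_neg, ← neg_div, neg_sub]
    congr 1
    linear_combination hγ x.1.1 - e)⟩)
  have hφ : Function.Injective φ := fun x y h => by
    simp only [φ, Prod.mk.injEq, Subtype.mk.injEq] at h
    obtain ⟨h1, h2⟩ := h
    rw [div_left_inj' hk0, h1, sub_left_inj] at h2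
    exact Subtype.ext (Prod.ext h1 h2)
  have hS : Nat.card S ≤ q ^ 3 := by
    refine (Nat.card_le_card_of_injective φ hφ).trans ?_
    rw [Nat.card_prod, hq, Nat.card_eq_fintype_card, hF]
    exact le_of_eq (by ring)
  let ψ : Option S → isoPts F q := fun o => o.elim
    ⟨ptC hR, by rw [ptC, mk_mem_isoPts hR]; exact hR.frame.cc⟩
    fun x => ⟨ptB hR x.1, by
      rw [ptB, mk_mem_isoPts hR]
      simp only [hf.add_left, un_add_right hf, hf.smul_left, un_smul_right hf, hR.frame.cc, hR.frame.gg,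
        hR.frame.gc, hR.frame.wc, hR.frame.wg, hR.gc', hR.cw, hR.gw, mul_zero, add_zero, zero_add, mul_one]
      have e : x.1.2 + τ x.1.2 = _ := x.2
      linear_combination e⟩
  have hψ : Function.Surjective ψ := fun p => by
    rcases iso_cases hR p.2 with h | ⟨x, hx, h⟩
    · exact ⟨none, Subtype.ext h.symm⟩
    · exact ⟨some ⟨x, hx⟩, Subtype.ext h.symm⟩
  refine (Nat.card_le_card_of_surjective ψ hψ).trans ?_
  rw [Finite.card_option]
  omega

theorem card_su3 (hF : Fintype.card F = q ^ 2) (hq : 2 ≤ q) :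
    Nat.card (su3 F q) = q ^ 3 * (q ^ 2 - 1) * (q ^ 3 + 1) := by
  have hF' : Nat.card F = q ^ 2 := by rw [Nat.card_eq_fintype_card, hF]
  have e : (su3 F q) ≃ Cfsg.SU 3 F q :=
    { toFun := fun k => ⟨⟨((k : GL (Fin 3) F) : M3), (mem_specialLinear_iff _).1 k.2.2⟩, k.2.1⟩
      invFun := fun s => ⟨Matrix.SpecialLinearGroup.toGL s.1, s.2, (mem_specialLinear_iff _).2 s.1.2⟩
      left_inv := fun k => Subtype.ext (Units.ext rfl)
      right_inv := fun s => Subtype.ext (Subtype.ext rfl) }
  rw [Nat.card_congr e]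
  have h := CfsgLib.Classical.card_SU_mul (n := 3) hF' (by norm_num)
  rw [CfsgLib.Classical.card_GU hF', Finset.prod_range_succ, Finset.prod_range_succ, Finset.prod_range_one] at h
  rw [if_pos (by decide : Even 0), if_neg (by decide : ¬ Even 1), if_pos (by decide : Even 2)] at h
  refine Nat.eq_of_mul_eq_mul_left (show 0 < q + 1 by omega) ?_
  rw [h]
  simp only [show 3 * (3 - 1) / 2 = 3 by norm_num, zero_add, pow_one, one_add_one_eq_two,
    show 2 + 1 = 3 by norm_num]
  ring

/-- Real isotropic points: one for each element of the field and one more. -/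
theorem card_realPts (hq : Nat.card F₀ = q) :
    Nat.card {p : PP // p ∈ isoPts F q ∧ RealPt F₀ P p} = q + 1 := by
  classical
  have hf := hR.hf
  have hc0 : c ≠ 0 := fun h0 => one_ne_zero (α := F) (by
    have h1 := hR.gc'
    rw [h0, un_zero_left hf] at h1
    exact h1.symm)
  have hYg : ∀ s : F₀, (hR.Y s : M3) *ᵥ g = (-((s : F) ^ 2 * hf3 F q w w) / 2) • c + (s : F) • w + g := fun s => by
    rw [hR.Y_g]; abel
  have hYiso : ∀ s : F₀, hf3 F q ((hR.Y s : M3) *ᵥ g) ((hR.Y s : M3) *ᵥ g) = 0 := fun s => by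
    rw [hR.Y_isometry, hR.frame.gg]
  have hg0 : ∀ s : F₀, (hR.Y s : M3) *ᵥ g ≠ 0 := fun s => by rw [hYg]; exact c_smul_ne hR ((s : F), _)
  let φ : Option F₀ → {p : PP // p ∈ isoPts F q ∧ RealPt F₀ P p} := fun o => o.elim
    ⟨ptC hR, by rw [ptC, mk_mem_isoPts hR]; exact hR.frame.cc, c, hc0, hR.rc, rfl⟩
    fun s => ⟨Projectivization.mk F _ (hg0 s), (mk_mem_isoPts hR _).2 (hYiso s), _, hg0 s, Y_real hR s hR.rg, rfl⟩
  have hbij : Function.Bijective φ := by
    constructor
    · intro a b h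
      have h' : (φ a : PP) = (φ b : PP) := congrArg Subtype.val h
      have hne : ∀ s : F₀, Projectivization.mk F _ (hg0 s) ≠ ptC hR := fun s e => by
        obtain ⟨t, ht⟩ := (Projectivization.mk_eq_mk_iff' F _ _ _ _).1 e
        have h1 := congrArg (fun v => hf3 F q v c) ht
        simp only [hf.smul_left, hR.frame.cc, mul_zero] at h1
        rw [hYg, ← one_smul F g, hR.coef.2.2] at h1
        exact zero_ne_one h1
      cases a <;> cases b <;> simp only [φ, Option.elim_none, Option.elim_some] at h'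
      · rfl
      · exact absurd h'.symm (hne _)
      · exact absurd h' (hne _)
      · rename_i s t
        obtain ⟨r, hr⟩ := (Projectivization.mk_eq_mk_iff' F _ _ _ _).1 h'
        rw [hYg, hYg] at hr
        have h1 := congrArg (fun v => hf3 F q v c) hr
        have h2 := congrArg (fun v => hf3 F q v w) hr
        simp only [hf.smul_left] at h1 h2
        rw [← one_smul F g, hR.coef.2.2, hR.coef.2.2, mul_one] at h1
        rw [← one_smul F g, hR.coef.2.1, hR.coef.2.1, h1, one_mul] at h2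
        exact congrArg some (Subtype.ext (mul_right_cancel₀ hR.frame.ww h2).symm)
    · rintro ⟨p, hp, x, hx, hxr, hxp⟩
      subst hxp
      rw [mk_mem_isoPts hR] at hp
      obtain ⟨e1, e2, e3⟩ := hR.coord x hxr
      have he := hR.expand x
      set α := hf3 F q x g
      set β := hf3 F q x w / hf3 F q w w
      set δ := hf3 F q x c
      have hβτ : τ β = β := hR.tau (F₀.div_mem e3 hR.om)
      have hiso : 2 * δ * α + β * β * hf3 F q w w = 0 := by
        have h := hp
        rw [he] at h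
        simp only [hf.add_left, un_add_right hf, hf.smul_left, un_smul_right hf, hR.frame.cc, hR.frame.gg,
          hR.frame.gc, hR.frame.wc, hR.frame.wg, hR.gc', hR.cw, hR.gw, hR.tau e1, hR.tau e2,
          hβτ, mul_zero, add_zero, zero_add, mul_one] at h
        linear_combination h
      by_cases hδ : δ = 0
      · refine ⟨none, Subtype.ext ?_⟩
        show ptC hR = _
        rw [ptC, eq_comm, Projectivization.mk_eq_mk_iff']
        have hβ : β = 0 := by
          rw [hδ, mul_zero, zero_mul, zero_add] at hiso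
          exact mul_self_eq_zero.1 ((mul_eq_zero.1 hiso).resolve_right hR.frame.ww)
        exact ⟨α, by rw [he, hβ, hδ, zero_smul, zero_smul, add_zero, add_zero]⟩
      · refine ⟨some ⟨β / δ, F₀.div_mem (F₀.div_mem e3 hR.om) e1⟩, Subtype.ext ?_⟩
        show Projectivization.mk F _ _ = _
        rw [eq_comm, Projectivization.mk_eq_mk_iff']
        refine ⟨δ, ?_⟩
        rw [hYg]
        conv_rhs => rw [he]
        have := hR.two
        match_scalars <;> field_simp
        linear_combination -hiso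
  rw [← Nat.card_congr (Equiv.ofBijective φ hbij), Finite.card_option, hq]

variable (hM : UOver F₀ P q M)
include hM

/-- The unipotent and torus part of the stabiliser. -/
def stabK : Subgroup M where
  carrier := {k | (∃ α : F, ((k : GL (Fin 3) F) : M3) *ᵥ c = α • c) ∧
    ∃ μ : F, ((k : GL (Fin 3) F) : M3) *ᵥ w = μ • c + w}
  one_mem' := ⟨⟨1, by simp⟩, ⟨0, by simp⟩⟩
  mul_mem' {k k'} hk hk' := by
    obtain ⟨⟨α, hα⟩, μ, hμ⟩ := hk
    obtain ⟨⟨α', hα'⟩, μ', hμ'⟩ := hk'
    refine ⟨⟨α' * α, ?_⟩, μ' * α + μ, ?_⟩ <;>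
      rw [Subgroup.coe_mul, Units.val_mul, ← Matrix.mulVec_mulVec]
    · rw [hα', Matrix.mulVec_smul, hα, smul_smul]
    · rw [hμ', Matrix.mulVec_add, Matrix.mulVec_smul, hα, hμ]; module
  inv_mem' {k} hk := by
    obtain ⟨⟨α, hα⟩, μ, hμ⟩ := hk
    have hα0 : α ≠ 0 := fun h0 => by
      rw [h0, zero_smul, ← Matrix.mulVec_zero ((k : GL (Fin 3) F) : M3)] at hα
      have h1 := hR.gc'
      rw [mulVec_inj _ hα, un_zero_left hR.hf] at h1
      exact zero_ne_one h1
    have e : ∀ x y, ((k : GL (Fin 3) F) : M3) *ᵥ x = y → (((k⁻¹ : M) : GL (Fin 3) F) : M3) *ᵥ y = x := fun x y h => by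
      rw [← h, Subgroup.coe_inv, Matrix.mulVec_mulVec, ← Units.val_mul, inv_mul_cancel, Units.val_one,
        Matrix.one_mulVec]
    refine ⟨⟨α⁻¹, e _ _ ?_⟩, -(μ / α), e _ _ ?_⟩
    · rw [Matrix.mulVec_smul, hα, smul_smul, inv_mul_cancel₀ hα0, one_smul]
    · rw [Matrix.mulVec_add, Matrix.mulVec_smul, hα, hμ, smul_smul, neg_mul, div_mul_cancel₀ _ hα0]; module

theorem card_stabK (hq : Nat.card F₀ = q) (hel : ¬ HasElation M) :
    Nat.card (stabK hR (M := M)) = q * (q - 1) ∧
      ∀ k : stabK hR (M := M), ∃ (a s : F₀) (ha : a ≠ 0), ((k : M) : GL (Fin 3) F) = hR.T a ha * hR.Y s := by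
  classical
  have hf := hR.hf
  have hTY : ∀ (a s : F₀) (ha : a ≠ 0),
      ((hR.T a ha * hR.Y s : GL (Fin 3) F) : M3) *ᵥ c = (a : F) • c ∧
      ((hR.T a ha * hR.Y s : GL (Fin 3) F) : M3) *ᵥ w = (-((s : F) * hf3 F q w w) * a) • c + w := fun a s ha => by
    obtain ⟨h1, -, h3⟩ := hR.T_apply ha
    constructor <;> rw [Units.val_mul, ← Matrix.mulVec_mulVec]
    · rw [hR.Y_c, h1]
    · rw [hR.Y_w, Matrix.mulVec_add, Matrix.mulVec_smul, h1, h3, smul_smul]; abel
  have hsurj : ∀ k : stabK hR (M := M), ∃ (a s : F₀) (ha : a ≠ 0),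
      ((k : M) : GL (Fin 3) F) = hR.T a ha * hR.Y s := by
    rintro ⟨k, ⟨α, hα⟩, μ, hμ⟩
    obtain ⟨l, a, s, ha, -, -, he⟩ := stab_eq hR hM hel k.2 hα
    have h := hμ
    rw [he, Units.val_mul, ← Matrix.mulVec_mulVec, (hTY a s ha).2, zs_mulVec, smul_add, smul_smul] at h
    have h1 := congrArg (fun v => hf3 F q v w) h
    simp only [hf.add_left, hf.smul_left, hR.cw, mul_zero, zero_add] at h1
    have hl : l = 1 := Units.ext (by
      rw [Units.val_one]
      exact mul_right_cancel₀ hR.frame.ww (h1.trans (one_mul _).symm))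
    refine ⟨a, s, ha, ?_⟩
    show (k : GL (Fin 3) F) = _
    rw [he, hl, zs, map_one, one_mul]
  let φ : {a : F₀ // a ≠ 0} × F₀ → stabK hR (M := M) := fun x =>
    ⟨⟨hR.T x.1.1 x.1.2 * hR.Y x.2, mul_mem (hM.ge (hR.T_mem_H _)) (hM.ge (hR.Y_mem_H _))⟩,
      ⟨_, (hTY _ _ _).1⟩, _, (hTY _ _ _).2⟩
  have hφ : Function.Bijective φ := by
    refine ⟨fun x y h => ?_, fun k => ?_⟩
    · have h' : hR.T x.1.1 x.1.2 * hR.Y x.2 = hR.T y.1.1 y.1.2 * hR.Y y.2 :=
        congrArg (fun k : stabK hR (M := M) => ((k : M) : GL (Fin 3) F)) h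
      have e1 := congrArg (fun m : GL (Fin 3) F => hf3 F q ((m : M3) *ᵥ c) g) h'
      simp only [(hTY _ _ _).1, hf.smul_left, hR.gc', mul_one] at e1
      have ha : x.1 = y.1 := Subtype.ext (Subtype.ext e1)
      have e2 := congrArg (fun m : GL (Fin 3) F => hf3 F q ((m : M3) *ᵥ w) g) h'
      simp only [(hTY _ _ _).2, hf.add_left, hf.smul_left, hR.gc', hR.frame.wg, mul_one, add_zero, e1] at e2
      have e3 : (x.2 : F) = y.2 := by
        have hy : ((y.1.1 : F₀) : F) ≠ 0 := fun h0 => y.1.2 (Subtype.ext h0)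
        exact mul_right_cancel₀ hR.frame.ww (neg_injective (mul_right_cancel₀ hy e2))
      exact Prod.ext ha (Subtype.ext e3)
    · obtain ⟨a, s, ha, he⟩ := hsurj k
      exact ⟨(⟨a, ha⟩, s), Subtype.ext (Subtype.ext he.symm)⟩
  refine ⟨?_, hsurj⟩
  haveI := Fintype.ofFinite F₀
  rw [← Nat.card_congr (Equiv.ofBijective φ hφ), Nat.card_prod, hq, mul_comm, Nat.card_eq_fintype_card,
    Fintype.card_subtype_compl, Fintype.card_subtype_eq, ← Nat.card_eq_fintype_card, hq]

set_option maxHeartbeats 800000 in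
/-- A point of the orbit with no real representative has a stabiliser of order at most two. -/
theorem card_stab_le_two (hKel : ∀ k : stabK hR (M := M), ∃ (a s : F₀) (ha : a ≠ 0),
      ((k : M) : GL (Fin 3) F) = hR.T a ha * hR.Y s) {p : PP} (hp : p ∈ isoPts F q)
    (hpn : ¬ RealPt F₀ P p) : Nat.card (stabilizer (stabK hR (M := M)) p) ≤ 2 := by
  classical
  rcases iso_cases hR hp with hpc | ⟨x, hx, hpx⟩
  · exact absurd ⟨c, fun h0 => one_ne_zero (α := F) (by
      have h1 := hR.gc'
      rw [h0, un_zero_left hR.hf] at h1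
      exact h1.symm), hR.rc, hpc.symm⟩ hpn
  have hkey : ∀ k : stabilizer (stabK hR (M := M)) p, ∃ (a s : F₀) (ha : a ≠ 0),
      ((((k : stabK hR (M := M))) : M) : GL (Fin 3) F) = hR.T a ha * hR.Y s ∧
        ((a : F) = 1 ∧ (s : F) = 0 ∨ (a : F) = -1 ∧ (s : F) = -2 * x.1) := by
    intro k
    obtain ⟨a, s, ha, he⟩ := hKel k
    refine ⟨a, s, ha, he, ?_⟩
    have hfix : ((((k : stabK hR (M := M))) : M) : GL (Fin 3) F) • p = p :=
      k.2
    rw [he, hpx, ptB, smul_mk_eq, Projectivization.mk_eq_mk_iff'] at hfix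
    obtain ⟨r, hr⟩ := hfix
    obtain ⟨T1, T2, T3⟩ := hR.T_apply ha
    have ha0 : (a : F) ≠ 0 := fun h0 => ha (Subtype.ext h0)
    set ω := hf3 F q w w with hω
    have e : ((hR.T a ha * hR.Y s : GL (Fin 3) F) : M3) *ᵥ (x.2 • c + x.1 • w + g) =
        ((a : F) * (x.2 - x.1 * s * ω - (s : F) ^ 2 * ω / 2)) • c + (x.1 + s) • w + (a : F)⁻¹ • g := by
      simp only [Units.val_mul, ← Matrix.mulVec_mulVec, Matrix.mulVec_add, Matrix.mulVec_smul, hR.Y_c, hR.Y_w,
        hR.Y_g, T1, T2, T3, ← hω]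
      match_scalars <;> ring
    rw [e, ← one_smul F g] at hr
    simp only [smul_add, smul_smul, mul_one] at hr
    have k3 := congrArg (fun v => hf3 F q v c) hr
    have k2 := congrArg (fun v => hf3 F q v w) hr
    have k1 := congrArg (fun v => hf3 F q v g) hr
    simp only [hR.coef.1, hR.coef.2.1, hR.coef.2.2] at k1 k2 k3
    subst k3
    have hb : x.1 * (1 - a) = a * s := by
      have := mul_right_cancel₀ hR.frame.ww k2
      field_simp at this
      linear_combination this
    have hal : x.2 * (1 - (a : F) ^ 2) = (a : F) ^ 2 * (-(x.1 * s * ω) - (s : F) ^ 2 * ω / 2) := by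
      field_simp at k1 ⊢
      linear_combination k1
    by_cases ha1 : (a : F) = 1
    · refine Or.inl ⟨ha1, ?_⟩
      rw [ha1] at hb
      linear_combination -hb
    by_cases ham : (a : F) = -1
    · refine Or.inr ⟨ham, ?_⟩
      rw [ham] at hb
      linear_combination hb
    exfalso
    apply hpn
    have h1a : 1 - (a : F) ≠ 0 := sub_ne_zero.2 (Ne.symm ha1)
    have h1a2 : 1 - (a : F) ^ 2 ≠ 0 := fun h0 => by
      have : ((a : F) - 1) * ((a : F) + 1) = 0 := by linear_combination -h0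
      rcases mul_eq_zero.1 this with h | h
      · exact ha1 (sub_eq_zero.1 h)
      · exact ham (eq_neg_of_add_eq_zero_left h)
    have hx1 : x.1 ∈ F₀ := by
      rw [eq_div_iff h1a |>.2 hb]
      exact F₀.div_mem (F₀.mul_mem a.2 s.2) (F₀.sub_mem F₀.one_mem a.2)
    have h2m : (2 : F) ∈ F₀ := by rw [← one_add_one_eq_two]; exact F₀.add_mem F₀.one_mem F₀.one_mem
    have hx2 : x.2 ∈ F₀ := by
      rw [eq_div_iff h1a2 |>.2 hal]
      exact F₀.div_mem (F₀.mul_mem (pow_mem a.2 2) (F₀.sub_mem (F₀.neg_mem (F₀.mul_mem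
        (F₀.mul_mem hx1 s.2) hR.om)) (F₀.div_mem (F₀.mul_mem (pow_mem s.2 2) hR.om) h2m)))
        (F₀.sub_mem F₀.one_mem (pow_mem a.2 2))
    refine ⟨_, c_smul_ne hR x, ?_, hpx.symm⟩
    have := hR.real_of_coef hx2 hx1 F₀.one_mem
    rwa [one_smul] at this
  choose A S hA hAS hcase using hkey
  refine (Nat.card_le_card_of_injective (fun k => (decide ((A k : F) = 1) : Bool)) fun k k' hkk => ?_).trans (by simp)
  simp only [decide_eq_decide] at hkk
  have hm1 : (-1 : F) ≠ 1 := fun h => hR.two (by linear_combination -h)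
  have : A k = A k' ∧ S k = S k' := by
    rcases hcase k with ⟨u1, v1⟩ | ⟨u1, v1⟩ <;> rcases hcase k' with ⟨u2, v2⟩ | ⟨u2, v2⟩
    · exact ⟨Subtype.ext (u1.trans u2.symm), Subtype.ext (v1.trans v2.symm)⟩
    · exact absurd (u2.symm.trans (hkk.1 u1)) hm1
    · exact absurd (u1.symm.trans (hkk.2 u2)) hm1
    · exact ⟨Subtype.ext (u1.trans u2.symm), Subtype.ext (v1.trans v2.symm)⟩
  refine Subtype.ext (Subtype.ext (Subtype.ext ?_))
  rw [hAS k, hAS k']
  simp only [this.1, this.2]


set_option maxHeartbeats 800000 in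
/-- The two possibilities for the orbit of a real point. -/
theorem orbit_cases (hq : Nat.card F₀ = q) (hF : Fintype.card F = q ^ 2) (hq7 : 7 ≤ q) (hodd : Odd q)
    (hel : ¬ HasElation M) :
    (∀ m : M, RealPt F₀ P (m • ptC hR)) ∨ ∀ p ∈ isoPts F q, ∃ m : M, m • ptC hR = p := by
  classical
  have hc0 : c ≠ 0 := fun h0 => one_ne_zero (α := F) (by
    have h1 := hR.gc'
    rw [h0, un_zero_left hR.hf] at h1
    exact h1.symm)
  set O : Set PP := orbit M (ptC hR) with hO
  have hOiso : O ⊆ isoPts F q := by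
    rintro _ ⟨m, rfl⟩
    show (m : GL (Fin 3) F) • Projectivization.mk F c _ ∈ _
    rw [smul_mk_eq, mk_mem_isoPts hR, hM.iso m.2, hR.frame.cc]
  -- the real points lie in the orbit
  have hreal : ∀ p, p ∈ isoPts F q → RealPt F₀ P p → p ∈ O := by
    rintro p hp ⟨x, hx, hxr, rfl⟩
    rw [mk_mem_isoPts hR] at hp
    obtain ⟨e1, e2, e3⟩ := hR.coord x hxr
    have he := hR.expand x
    set α := hf3 F q x g
    set β := hf3 F q x w / hf3 F q w w
    set δ := hf3 F q x c
    have hf := hR.hf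
    have hβτ : τ β = β := hR.tau (F₀.div_mem e3 hR.om)
    have hiso : 2 * δ * α + β * β * hf3 F q w w = 0 := by
      have h := hp
      rw [he] at h
      simp only [hf.add_left, un_add_right hf, hf.smul_left, un_smul_right hf, hR.frame.cc, hR.frame.gg,
        hR.frame.gc, hR.frame.wc, hR.frame.wg, hR.gc', hR.cw, hR.gw, hR.tau e1, hR.tau e2,
        hβτ, mul_zero, add_zero, zero_add, mul_one] at h
      linear_combination h
    by_cases hδ : δ = 0
    · have hβ : β = 0 := by
        rw [hδ, mul_zero, zero_mul, zero_add] at hiso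
        exact mul_self_eq_zero.1 ((mul_eq_zero.1 hiso).resolve_right hR.frame.ww)
      refine ⟨1, ?_⟩
      show (1 : M) • ptC hR = _
      rw [one_smul, ptC, eq_comm, Projectivization.mk_eq_mk_iff']
      exact ⟨α, by rw [he, hβ, hδ, zero_smul, zero_smul, add_zero, add_zero]⟩
    · let s : F₀ := ⟨β / δ, F₀.div_mem (F₀.div_mem e3 hR.om) e1⟩
      refine ⟨⟨hR.Y s * hR.S 1 one_ne_zero, mul_mem (hM.ge (hR.Y_mem_H _)) (hM.ge (hR.S_mem_H _))⟩, ?_⟩
      show (hR.Y s * hR.S 1 one_ne_zero : GL (Fin 3) F) • Projectivization.mk F c _ = _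
      rw [smul_mk_eq, eq_comm, Projectivization.mk_eq_mk_iff']
      refine ⟨δ, ?_⟩
      rw [Units.val_mul, ← Matrix.mulVec_mulVec, (hR.S_apply (one_ne_zero : (1 : F₀) ≠ 0)).1,
        show ((1 : F₀) : F) = 1 from rfl, one_smul, hR.Y_g, he]
      have := hR.two
      simp only [s]
      match_scalars <;> field_simp
      linear_combination -hiso
  obtain ⟨hK, hKel⟩ := card_stabK hR hM hq hel
  -- the stabiliser acts on the other points of the orbit
  let N : SubMulAction (stabK hR (M := M)) PP :=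
    { carrier := {p | p ∈ O ∧ ¬ RealPt F₀ P p}
      smul_mem' := fun k p hp => by
        obtain ⟨⟨m, hm⟩, hnr⟩ := hp
        refine ⟨⟨(k : M) * m, ?_⟩, fun hr => hnr ?_⟩
        · show ((k : M) * m) • ptC hR = _
          rw [mul_smul, show m • ptC hR = p from hm]; rfl
        · obtain ⟨x, hx, hxr, hxp⟩ := hr
          obtain ⟨a, s, ha, he⟩ := hKel k⁻¹
          refine ⟨_, mulVec_ne_zero (((k⁻¹ : stabK hR (M := M)) : M) : GL (Fin 3) F) hx, ?_, ?_⟩
          · rw [he, Units.val_mul, ← Matrix.mulVec_mulVec]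
            exact T_real hR ha (Y_real hR s hxr)
          · rw [← smul_mk_eq _ hx, hxp]
            exact inv_smul_smul k p }
  set h := q * (q - 1) / 2 with hh
  have h2h : 2 * h = q * (q - 1) := by
    obtain ⟨r, hr⟩ := hodd
    rw [hh, Nat.mul_div_cancel' ⟨q * r, by rw [hr, show 2 * r + 1 - 1 = 2 * r by omega]; ring⟩]
  have horb : ∀ p : N, h ∣ Nat.card (orbit (stabK hR (M := M)) p) := by
    intro p
    have hmul : Nat.card (orbit (stabK hR (M := M)) p) * Nat.card (stabilizer (stabK hR (M := M)) p) = q * (q - 1) := by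
      rw [← hK, ← Nat.card_prod]
      exact Nat.card_congr (orbitProdStabilizerEquivGroup _ p)
    have hle : Nat.card (stabilizer (stabK hR (M := M)) p) ≤ 2 := by
      refine le_trans (Nat.card_le_card_of_injective
        (fun k => (⟨k.1, congrArg Subtype.val k.2⟩ : stabilizer (stabK hR (M := M)) (p : PP)))
        fun k k' h => Subtype.ext (congrArg (fun z : stabilizer (stabK hR (M := M)) (p : PP) => z.1) h))
        (card_stab_le_two hR hM hKel (hOiso p.2.1) p.2.2)
    have hpos : 0 < Nat.card (stabilizer (stabK hR (M := M)) p) := Nat.card_pos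
    interval_cases hs : Nat.card (stabilizer (stabK hR (M := M)) p)
    · exact ⟨2, by rw [mul_comm h 2, h2h, ← hmul, mul_one]⟩
    · exact ⟨1, by omega⟩
  have hN : h ∣ Nat.card N := by
    haveI := Fintype.ofFinite (orbitRel.Quotient (stabK hR (M := M)) N)
    rw [Nat.card_congr (selfEquivSigmaOrbits (stabK hR (M := M)) N), Nat.card_sigma]
    exact Finset.dvd_sum fun o _ => horb _
  obtain ⟨n, hn⟩ := hN
  have hsplit : Nat.card O = (q + 1) + n * h := by
    rw [← card_realPts hR hq, mul_comm n h, ← hn]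
    have e1 : Nat.card {p : PP // p ∈ isoPts F q ∧ RealPt F₀ P p} = Nat.card {p : O // RealPt F₀ P p.1} :=
      Nat.card_congr
        { toFun := fun p => ⟨⟨p.1, hreal p.1 p.2.1 p.2.2⟩, p.2.2⟩
          invFun := fun p => ⟨p.1.1, hOiso p.1.2, p.2⟩
          left_inv := fun p => rfl
          right_inv := fun p => rfl }
    have e2 : Nat.card N = Nat.card {p : O // ¬ RealPt F₀ P p.1} :=
      Nat.card_congr
        { toFun := fun p => ⟨⟨p.1, p.2.1⟩, p.2.2⟩
          invFun := fun p => ⟨p.1.1, p.1.2, p.2⟩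
          left_inv := fun p => rfl
          right_inv := fun p => rfl }
    rw [e1, e2, ← Nat.card_sum]
    exact Nat.card_congr (Equiv.sumCompl _).symm
  -- the orbit size divides the order of the unitary group
  have hdvd : Nat.card O ∣ (q + 1) * (q ^ 3 + 1) := by
    have h1 : Nat.card O * (q * (q - 1)) ∣ Nat.card M := by
      have e : Nat.card O * Nat.card (stabilizer M (ptC hR)) = Nat.card M := by
        rw [← Nat.card_prod]; exact Nat.card_congr (orbitProdStabilizerEquivGroup _ _)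
      rw [← hK, ← e]
      refine Nat.mul_dvd_mul_left _ (Subgroup.card_dvd_of_le fun k hk => ?_)
      obtain ⟨⟨α, hα⟩, -⟩ := hk
      show (k : GL (Fin 3) F) • Projectivization.mk F c _ = Projectivization.mk F c _
      rw [smul_mk_eq, Projectivization.mk_eq_mk_iff']
      exact ⟨α, hα.symm⟩
    have h2 := h1.trans (Subgroup.card_dvd_of_le hM.le)
    rw [card_su3 hR hF (by omega)] at h2
    have h3 : q ^ 3 * (q ^ 2 - 1) * (q ^ 3 + 1) = q ^ 2 * ((q + 1) * (q ^ 3 + 1)) * (q * (q - 1)) := by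
      rw [show q ^ 2 - 1 = (q + 1) * (q - 1) by
        have := Nat.sq_sub_sq q 1
        rwa [one_pow] at this]
      ring
    rw [h3] at h2
    have h4 := Nat.dvd_of_mul_dvd_mul_right (Nat.mul_pos (by omega) (by omega)) h2
    refine Nat.Coprime.dvd_of_dvd_mul_left (Nat.Coprime.pow_right 2 ?_) h4
    rw [hsplit]
    obtain ⟨r, hr⟩ := hodd
    have : h = q * r := by
      rw [hh, hr, show 2 * r + 1 - 1 = 2 * r by omega, show (2 * r + 1) * (2 * r) = 2 * ((2 * r + 1) * r) by ring,
        Nat.mul_div_cancel_left _ (by norm_num)]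
    rw [this, show q + 1 + n * (q * r) = 1 + (1 + n * r) * q by ring, Nat.coprime_add_mul_right_left]
    exact Nat.coprime_one_left q
  have hle : Nat.card O ≤ q ^ 3 + 1 :=
    (Nat.card_mono (Set.toFinite _) hOiso).trans (card_isoPts_le hR hq hF)
  rcases orbit_size hq7 (Nat.odd_iff.1 hodd) h2h hsplit hle hdvd with rfl | hall
  · left
    intro m
    by_contra hm
    rw [mul_zero] at hn
    haveI : IsEmpty N := (Finite.card_eq_zero_iff).1 hn
    exact IsEmpty.false (⟨m • ptC hR, ⟨m, rfl⟩, hm⟩ : N)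
  · right
    intro p hp
    have : O = isoPts F q := Set.eq_of_subset_of_ncard_le hOiso (by
      rw [← Nat.card_coe_set_eq, ← Nat.card_coe_set_eq, hall]
      exact card_isoPts_le hR hq hF) (Set.toFinite _)
    rw [← this] at hp
    exact hp

end CfsgLib.Dim3Max.UOrth
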