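import Cfsg.Agent.Lib.Dim3Max.UOrth.Elems

/-!
An overgroup of the orthogonal subgroup is irreducible; with an elation it has all unitary transvections at
a real isotropic point.
-/

set_option autoImplicit false
set_option linter.unusedSectionVars false

namespace CfsgLib.Dim3Max.UOrth

open scoped Matrix
open CfsgLib.Maximal CfsgLib.Maximal.UnFour

universe u

variable {F : Type u} [Field F] [Fintype F] {q : ℕ} {τ : F ≃+* F} {F₀ : Subfield F} {P : GL (Fin 3) F}
  {c g w : Fin 3 → F} {M : Subgroup (GL (Fin 3) F)}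

local notation "M3" => Matrix (Fin 3) (Fin 3) F

variable (hR : RFrame q τ F₀ P c g w) (hM : UOver F₀ P q M)
include hR

/-- A vector fixed by a non-trivial unipotent element is a multiple of `c`. -/
theorem eq_smul_of_Y_fixed {x : Fin 3 → F} (h : (hR.Y 1 : M3) *ᵥ x = x) : x = hf3 F q x g • c := by
  have hone : ((1 : F₀) : F) = 1 := rfl
  have hω := hR.frame.ww
  obtain ⟨α, β, δ, rfl⟩ : ∃ α β δ : F, x = α • c + β • w + δ • g := ⟨_, _, _, hR.expand x⟩
  obtain ⟨e1, e2, e3⟩ := hR.coef (α := α) (β := β) (δ := δ)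
  rw [e1]
  rw [Matrix.mulVec_add, Matrix.mulVec_add, Matrix.mulVec_smul, Matrix.mulVec_smul, Matrix.mulVec_smul, hR.Y_c,
    hR.Y_w, hR.Y_g, hone] at h
  have h1 : (α + β * -(1 * hf3 F q w w) + δ * (-(1 ^ 2 * hf3 F q w w) / 2)) • c + (β + δ) • w + δ • g =
      α • c + β • w + δ • g := by
    rw [← h]; module
  have k1 := congrArg (fun v => hf3 F q v g) h1
  have k2 := congrArg (fun v => hf3 F q v w) h1
  simp only [(hR.coef).1, (hR.coef).2.1] at k1 k2
  have hδ : δ = 0 := (mul_eq_zero.1 (show δ * hf3 F q w w = 0 by linear_combination k2)).resolve_right hω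
  rw [hδ] at k1
  have hβ : β = 0 := (mul_eq_zero.1 (show β * hf3 F q w w = 0 by linear_combination -k1)).resolve_right hω
  rw [hδ, hβ, zero_smul, zero_smul, add_zero, add_zero]

theorem c_ne : c ≠ 0 := fun h0 => by
  have h1 := hR.gc'
  rw [h0, un_zero_left hR.hf] at h1
  exact zero_ne_one h1

include hM

theorem irr : Irr M := by
  intro W hW
  refine or_iff_not_imp_left.2 fun hne => ?_
  have inv : ∀ k ∈ M, ∀ x ∈ W, (k : M3) *ᵥ x ∈ W := fun k hk x hx =>
    hW _ ⟨k, hk, rfl⟩ ⟨x, hx, Matrix.toLin'_apply _ _⟩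
  have hY := fun s : F₀ => hM.ge (hR.Y_mem_H s)
  have hone : ((1 : F₀) : F) = 1 := rfl
  have hω := hR.frame.ww
  obtain ⟨x, hx, hx0⟩ := W.ne_bot_iff.1 hne
  have hxe := hR.expand x
  set α := hf3 F q x g
  set β := hf3 F q x w / hf3 F q w w
  set δ := hf3 F q x c
  have hcW : c ∈ W := by
    by_cases hδ : δ = 0
    · by_cases hβ : β = 0
      · rw [hδ, hβ, zero_smul, zero_smul, add_zero, add_zero] at hxe
        refine (W.smul_mem_iff (s := α) fun h0 => hx0 (by rw [hxe, h0, zero_smul])).1 ?_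
        rwa [← hxe]
      · have h := W.sub_mem (inv _ (hY 1) x hx) hx
        rw [hxe, hδ, zero_smul, add_zero, Matrix.mulVec_add, Matrix.mulVec_smul, Matrix.mulVec_smul, hR.Y_c,
          hR.Y_w, hone, add_sub_add_left_eq_sub, smul_add, add_sub_cancel_left, smul_smul] at h
        exact (W.smul_mem_iff (mul_ne_zero hβ (by simpa using hω))).1 h
    · have h := W.sub_mem (W.add_mem (inv _ (hY 1) x hx) (inv _ (hY (-1)) x hx)) (W.add_mem hx hx)
      have e : (hR.Y 1 : M3) *ᵥ x + (hR.Y (-1) : M3) *ᵥ x - (x + x) = (-(δ * hf3 F q w w)) • c := by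
        rw [hxe]
        simp only [Matrix.mulVec_add, Matrix.mulVec_smul, hR.Y_c, hR.Y_w, hR.Y_g, Subfield.coe_neg, hone]
        match_scalars <;> field_simp [hR.two] <;> ring
      rw [e] at h
      exact (W.smul_mem_iff (neg_ne_zero.2 (mul_ne_zero hδ hω))).1 h
  have hgW : g ∈ W := by
    have h := inv _ (hM.ge (hR.S_mem_H (one_ne_zero : (1 : F₀) ≠ 0))) c hcW
    rwa [(hR.S_apply one_ne_zero).1, hone, one_smul] at h
  have hwW : w ∈ W := by
    have h := W.sub_mem (inv _ (hY 1) g hgW) (W.add_mem hgW (W.smul_mem (-((1 : F) ^ 2 * hf3 F q w w) / 2) hcW))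
    rw [hR.Y_g, hone, one_smul] at h
    convert h using 1
    abel
  refine eq_top_iff.2 fun z _ => ?_
  rw [hR.expand z]
  exact W.add_mem (W.add_mem (W.smul_mem _ hcW) (W.smul_mem _ hwW)) (W.smul_mem _ hgW)

/-- An elation can be moved to a real point. -/
theorem exists_elation_at_c {p : ℕ} [Fact p.Prime] [CharP F p] (hel : HasElation M) :
    ∃ k : F, k ≠ 0 ∧ τ k = -k ∧ Has M (k • c) (fvec (hf3 F q) c) := by
  classical
  have hf := hR.hf
  have hp : ((p : F)) = 0 := CharP.cast_eq_zero F p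
  obtain ⟨a, φ, ha, hφ, hE, hEM⟩ := hel
  -- transvections have order `p`
  have hpow : ∀ (a φ : Fin 3 → F) (h : φ ⬝ᵥ a = 0) (n : ℕ),
      ((tv a φ h ^ n : GL (Fin 3) F) : M3) = 1 + (n : F) • Matrix.vecMulVec a φ := by
    intro a φ h n
    induction n with
    | zero => simp
    | succ n ih =>
      rw [pow_succ, Units.val_mul, ih, tv_val, add_mul, one_mul, Matrix.smul_mul, mul_add, mul_one,
        Matrix.vecMulVec_mul_vecMulVec, h, zero_smul, Matrix.vecMulVec_zero, add_zero, Nat.cast_succ, add_smul,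
        one_smul]
      abel
  set u : M := ⟨hR.Y 1, hM.ge (hR.Y_mem_H 1)⟩
  have hone : ((1 : F₀) : F) = 1 := rfl
  have hu : u ^ p = 1 := by
    refine Subtype.ext ?_
    rw [SubmonoidClass.coe_pow, OneMemClass.coe_one]
    have key : ∀ n : ℕ, hR.Y 1 ^ n = hR.Y (n : F₀) := by
      intro n
      induction n with
      | zero =>
        rw [pow_zero, Nat.cast_zero]
        refine hR.ext ?_ ?_ ?_ <;> rw [Units.val_one, Matrix.one_mulVec]
        · rw [hR.Y_c]
        · rw [hR.Y_w]; simp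
        · rw [hR.Y_g]; simp
      | succ n ih =>
        rw [pow_succ, ih]
        refine hR.ext ?_ ?_ ?_ <;> rw [Units.val_mul, ← Matrix.mulVec_mulVec]
        · rw [hR.Y_c, hR.Y_c, hR.Y_c]
        · simp only [hR.Y_w, Matrix.mulVec_add, Matrix.mulVec_smul, hR.Y_c]
          push_cast
          match_scalars <;> ring
        · simp only [hR.Y_g, hR.Y_w, Matrix.mulVec_add, Matrix.mulVec_smul, hR.Y_c]
          push_cast
          match_scalars <;> field_simp [hR.two] <;> ring
    rw [key]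
    refine hR.ext ?_ ?_ ?_ <;> rw [Units.val_one, Matrix.one_mulVec]
    · rw [hR.Y_c]
    · rw [hR.Y_w]; simp [hp]
    · rw [hR.Y_g]; simp [hp]
  have hpg : ∀ x : M, x ^ p = 1 → IsPGroup p (Subgroup.zpowers x) := fun x hx y => by
    obtain ⟨y, i, rfl⟩ := y
    refine ⟨1, Subtype.ext ?_⟩
    show (x ^ i) ^ (p ^ 1) = 1
    rw [pow_one, ← zpow_natCast, ← zpow_mul, mul_comm, zpow_mul, zpow_natCast, hx, one_zpow]
  obtain ⟨S, hS⟩ := (hpg u hu).exists_le_sylow
  have huS : u ∈ S := hS (Subgroup.mem_zpowers u)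
  -- the Sylow group fixes `c`
  obtain ⟨x, hx, hx0⟩ : ∃ x : Fin 3 → F, (∀ s : (S : Subgroup M), ((s : M) : GL (Fin 3) F).1 *ᵥ x = x) ∧ x ≠ 0 := by
    letI : MulAction (S : Subgroup M) (Fin 3 → F) :=
      { smul := fun s x => ((s : M) : GL (Fin 3) F).1 *ᵥ x
        one_smul := fun x => Matrix.one_mulVec x
        mul_smul := fun s t x => (Matrix.mulVec_mulVec _ _ _).symm }
    have hdvd : p ∣ Nat.card (Fin 3 → F) := by
      obtain ⟨n, -, hn⟩ := FiniteField.card F p
      rw [Nat.card_fun, Nat.card_eq_fintype_card, hn, ← pow_mul]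
      exact dvd_pow_self p (by simp)
    have h0 : (0 : Fin 3 → F) ∈ MulAction.fixedPoints (S : Subgroup M) (Fin 3 → F) := fun s => Matrix.mulVec_zero _
    obtain ⟨x, hx, hne⟩ := S.2.exists_fixed_point_of_prime_dvd_card_of_fixed_point _ hdvd h0
    exact ⟨x, hx, hne.symm⟩
  have hxc := eq_smul_of_Y_fixed hR (hx ⟨u, huS⟩)
  set α := hf3 F q x g
  have hα : α ≠ 0 := fun h0 => hx0 (by rw [hxc, h0, zero_smul])
  have hfix : ∀ s : M, s ∈ S → ((s : GL (Fin 3) F) : M3) *ᵥ c = c := fun s hs => by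
    have h := hx ⟨s, hs⟩
    rw [hxc, Matrix.mulVec_smul] at h
    exact smul_right_injective _ hα h
  -- move the elation into it
  set e : M := ⟨tv a φ hE, hEM⟩
  have he : e ^ p = 1 := Subtype.ext (Units.ext (by
    rw [SubmonoidClass.coe_pow, hpow, hp, zero_smul, add_zero]; rfl))
  obtain ⟨S', hS'⟩ := (hpg e he).exists_le_sylow
  obtain ⟨m, hm⟩ := MulAction.exists_smul_eq M S' S
  have hmem : m * e * m⁻¹ ∈ S := by
    rw [← hm]
    show m * e * m⁻¹ ∈ ((m • S' : Sylow p M) : Subgroup M)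
    rw [Sylow.coe_subgroup_smul]
    exact ⟨e, hS' (Subgroup.mem_zpowers e), rfl⟩
  obtain ⟨h0, heq⟩ := conj_tv (m : GL (Fin 3) F) a φ hE
  set a' := ((m : GL (Fin 3) F) : M3) *ᵥ a
  set φ' := φ ᵥ* (((m : GL (Fin 3) F)⁻¹ : GL (Fin 3) F) : M3)
  have hc' := hfix _ hmem
  have hmE : ((m * e * m⁻¹ : M) : GL (Fin 3) F) = tv a' φ' h0 := heq
  rw [hmE, tv_mulVec, add_eq_left, smul_eq_zero] at hc'
  have ha' : a' ≠ 0 := mulVec_ne_zero _ ha
  have hφ'c : φ' ⬝ᵥ c = 0 := hc'.resolve_right ha'
  have hM' : tv a' φ' h0 ∈ M := hmE ▸ (m * e * m⁻¹).2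
  -- elations of the unitary group
  have hexp : ∀ x y, hf3 F q x a' * τ (φ' ⬝ᵥ y) + φ' ⬝ᵥ x * hf3 F q a' y +
      φ' ⬝ᵥ x * τ (φ' ⬝ᵥ y) * hf3 F q a' a' = 0 := fun x y => by
    have h := hM.iso hM' x y
    rw [tv_mulVec, tv_mulVec, hf.add_left, un_add_right hf, un_add_right hf, hf.smul_left, hf.smul_left,
      un_smul_right hf, un_smul_right hf] at h
    linear_combination h
  have hφ' : φ' ≠ 0 := vecMul_inv_ne_zero _ hφ
  obtain ⟨x₁, hx₁⟩ := exists_dot_ne_zero hφ'
  have haa : hf3 F q a' a' = 0 := by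
    have h := hexp x₁ a'
    rw [h0, map_zero, mul_zero, zero_add, mul_zero, zero_mul, add_zero] at h
    exact (mul_eq_zero.1 h).resolve_left hx₁
  have hca : hf3 F q c a' = 0 := by
    have h := hexp c x₁
    rw [hφ'c, haa, zero_mul, mul_zero, add_zero, add_zero, mul_eq_zero] at h
    exact h.resolve_right fun h1 => hx₁ (τ.injective (by rw [h1, map_zero]))
  set α' := hf3 F q a' g
  have hac : a' = α' • c := by
    have e1 : hf3 F q a' c = 0 := rev_zero hf hca
    have e2 := hR.expand a'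
    rw [e1, zero_smul, add_zero] at e2
    set β := hf3 F q a' w / hf3 F q w w
    have h := haa
    rw [e2] at h
    simp only [hf.add_left, un_add_right hf, hf.smul_left, un_smul_right hf, hR.frame.cc, hR.frame.wc, hR.cw,
      mul_zero, zero_add, add_zero] at h
    have hβ : β = 0 := by
      rcases mul_eq_zero.1 h with hb | hb
      · exact hb
      · exact τ.injective (by rw [map_zero]; exact (mul_eq_zero.1 hb).resolve_right hR.frame.ww)
    rwa [hβ, zero_smul, add_zero] at e2
  have hα' : α' ≠ 0 := fun h => ha' (by rw [hac, h, zero_smul])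
  -- the functional is the polar of `c`
  set t := φ' ⬝ᵥ g
  have hφc : φ' = t • fvec (hf3 F q) c := by
    refine dot_ext fun x => ?_
    rw [smul_dotProduct, un_dot hf, smul_eq_mul]
    have h := hexp x g
    rw [haa, hac, hf.smul_left, un_smul_right hf, hR.gc', mul_zero, add_zero, mul_one] at h
    have h' := hexp g g
    rw [haa, hac, hf.smul_left, un_smul_right hf, hR.gc', hR.frame.gc, mul_zero, add_zero, mul_one, mul_one] at h'
    refine mul_right_cancel₀ hα' ?_
    linear_combination h - hf3 F q x c * h'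
  have hk : τ (α' * t) = -(α' * t) := by
    have h' := hexp g g
    rw [haa, hac, hf.smul_left, un_smul_right hf, hR.gc', hR.frame.gc, mul_zero, add_zero, mul_one, mul_one] at h'
    rw [map_mul]
    linear_combination h'
  refine ⟨α' * t, mul_ne_zero hα' fun ht => hφ' (by rw [hφc, ht, zero_smul]), hk, ?_⟩
  have : Has M a' φ' := ⟨h0, hM'⟩
  rw [hφc, hac, ← Has.smul_iff, smul_smul] at this
  rwa [mul_comm] at this

/-- An elation gives all unitary transvections at `c`. -/
theorem full_of_elation {p : ℕ} [Fact p.Prime] [CharP F p] (hel : HasElation M) : UFull τ q M c := by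
  have hf := hR.hf
  obtain ⟨k, hk0, hk, hHas⟩ := exists_elation_at_c hR hM (p := p) hel
  let T : AddSubgroup F₀ :=
    { carrier := {t | Has M (((t : F) * k) • c) (fvec (hf3 F q) c)}
      zero_mem' := has_of_zero (Or.inl (by simp))
      add_mem' := fun {a b} ha hb => by
        show Has M ((((a + b : F₀) : F) * k) • c) _
        rw [Subfield.coe_add, add_mul, add_smul]; exact Has.add_left ha hb
      neg_mem' := fun {a} ha => by
        show Has M ((((-a : F₀) : F) * k) • c) _
        rw [Subfield.coe_neg, neg_mul, neg_smul]; exact Has.neg ha }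
  have h20 : (2 : F₀) ≠ 0 := fun h => hR.two (by simpa [map_ofNat] using congrArg F₀.subtype h)
  have htop : T = ⊤ := Conic.addSubgroup_eq_top_of_sq h20 T (one_ne_zero : (1 : F₀) ≠ 0) fun a => by
    rw [one_mul]
    rcases eq_or_ne a 0 with rfl | ha
    · rw [zero_pow two_ne_zero]; exact T.zero_mem
    have hT := hR.T_mem_H ha
    have h := hHas.conj (hM.ge hT)
    rw [Herm.fvec_conj hf (fun u v => hM.iso (hM.ge hT) u v), Matrix.mulVec_smul, (hR.T_apply ha).1,
      un_fvec_smul hf, hR.tau a.2, ← Has.smul_iff, smul_smul, smul_smul] at h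
    show Has M ((((a ^ 2 : F₀) : F) * k) • c) _
    convert h using 1
    push_cast
    module
  intro k' hk'
  have hmem : τ (k' / k) = k' / k := by rw [map_div₀, hk, hk', neg_div_neg_eq]
  have : (⟨k' / k, (hR.fixed _).2 hmem⟩ : F₀) ∈ T := by rw [htop]; exact AddSubgroup.mem_top _
  have h : Has M ((k' / k * k) • c) (fvec (hf3 F q) c) := this
  rwa [div_mul_cancel₀ _ hk0] at h

end CfsgLib.Dim3Max.UOrth
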