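import Cfsg.Agent.Lib.Dim3Max.UOrth.Frame

/-!
The unipotent elements, the flips and the torus of the orthogonal group, acting on a real frame.
-/

set_option autoImplicit false
set_option linter.unusedSectionVars false

namespace CfsgLib.Dim3Max.UOrth

open scoped Matrix
open CfsgLib.Maximal CfsgLib.Maximal.UnFour

universe u

variable {F : Type u} [Field F] {q : ℕ} {τ : F ≃+* F} {F₀ : Subfield F} {P : GL (Fin 3) F} {c g w : Fin 3 → F}

local notation "M3" => Matrix (Fin 3) (Fin 3) F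

section

variable (hR : RFrame q τ F₀ P c g w)
include hR

theorem RFrame.tau {x : F} (hx : x ∈ F₀) : τ x = x := (hR.fixed x).1 hx

variable [Fintype F]

theorem RFrame.gc' : hf3 F q c g = 1 := rev_one hR.hf hR.frame.gc

theorem RFrame.cw : hf3 F q c w = 0 := rev_zero hR.hf hR.frame.wc

theorem RFrame.gw : hf3 F q g w = 0 := rev_zero hR.hf hR.frame.wg

/-- Matrices agreeing on the frame are equal. -/
theorem RFrame.ext {k k' : GL (Fin 3) F} (h1 : (k : M3) *ᵥ c = (k' : M3) *ᵥ c) (h2 : (k : M3) *ᵥ w = (k' : M3) *ᵥ w)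
    (h3 : (k : M3) *ᵥ g = (k' : M3) *ᵥ g) : k = k' := by
  refine Units.ext (Matrix.ext_iff_mulVec.2 fun x => ?_)
  rw [Herm.frame_expand hR.hf hR.frame x]
  simp only [Matrix.mulVec_add, Matrix.mulVec_smul, h1, h2, h3]

/-- Coefficients in the frame. -/
theorem RFrame.coef {α β δ : F} :
    hf3 F q (α • c + β • w + δ • g) g = α ∧ hf3 F q (α • c + β • w + δ • g) w = β * hf3 F q w w ∧
      hf3 F q (α • c + β • w + δ • g) c = δ := by
  simp [hR.hf.add_left, hR.hf.smul_left, hR.frame.cc, hR.frame.gg, hR.frame.gc, hR.frame.wc, hR.frame.wg, hR.gc',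
    hR.cw, hR.gw]

theorem RFrame.expand (x : Fin 3 → F) :
    x = hf3 F q x g • c + (hf3 F q x w / hf3 F q w w) • w + hf3 F q x c • g := by
  conv_lhs => rw [Herm.frame_expand hR.hf hR.frame x]
  abel

theorem RFrame.real_of_coef {α β δ : F} (hα : α ∈ F₀) (hβ : β ∈ F₀) (hδ : δ ∈ F₀) :
    Rl F₀ P (α • c + β • w + δ • g) :=
  ((hR.rc.smul hα).add (hR.rw.smul hβ)).add (hR.rg.smul hδ)

/-- The unipotent element. -/
noncomputable def RFrame.Y (s : F₀) : GL (Fin 3) F :=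
  unSiegel hR.hf hR.frame.cc (show hf3 F q ((s : F) • w) c = 0 by
    rw [hR.hf.smul_left, hR.frame.wc, mul_zero]) (-((s : F) ^ 2 * hf3 F q w w) / 2)

theorem RFrame.Y_isometry (s : F₀) (u v : Fin 3 → F) :
    hf3 F q ((hR.Y s : M3) *ᵥ u) ((hR.Y s : M3) *ᵥ v) = hf3 F q u v := by
  refine unSiegel_isometry hR.hf _ _ ?_ u v
  have h2 : τ 2 = 2 := map_ofNat τ 2
  rw [map_div₀, map_neg, map_mul, map_pow, hR.tau s.2, hR.tau hR.om, h2, hR.hf.smul_left, un_smul_right hR.hf,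
    hR.tau s.2]
  have := hR.two
  field_simp
  ring

theorem RFrame.Y_c (s : F₀) : (hR.Y s : M3) *ᵥ c = c := by
  rw [RFrame.Y, unSiegel_mulVec, hR.frame.cc, un_smul_right hR.hf, hR.cw]
  simp

theorem RFrame.Y_w (s : F₀) : (hR.Y s : M3) *ᵥ w = w + (-((s : F) * hf3 F q w w)) • c := by
  rw [RFrame.Y, unSiegel_mulVec, hR.frame.wc, un_smul_right hR.hf, hR.tau s.2]
  simp

theorem RFrame.Y_g (s : F₀) :
    (hR.Y s : M3) *ᵥ g = g + (s : F) • w + (-((s : F) ^ 2 * hf3 F q w w) / 2) • c := by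
  rw [RFrame.Y, unSiegel_mulVec, hR.frame.gc, un_smul_right hR.hf, hR.gw]
  simp only [mul_one, mul_zero, sub_zero, one_smul]
  abel

theorem flip_dot {v : Fin 3 → F} (hv : hf3 F q v v ≠ 0) :
    ((2 / hf3 F q v v) • fvec (hf3 F q) v) ⬝ᵥ v = 2 := by
  rw [smul_dotProduct, un_dot hR.hf, smul_eq_mul, div_mul_cancel₀ _ hv]

/-- The homology with centre `v` and axis its polar. -/
noncomputable def RFrame.flipV (v : Fin 3 → F) (hv : hf3 F q v v ≠ 0) : GL (Fin 3) F :=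
  Conic.hom v ((2 / hf3 F q v v) • fvec (hf3 F q) v) (flip_dot hR hv)

theorem RFrame.flipV_mulVec {v : Fin 3 → F} (hv : hf3 F q v v ≠ 0) (x : Fin 3 → F) :
    (hR.flipV v hv : M3) *ᵥ x = -x + (2 / hf3 F q v v * hf3 F q x v) • v := by
  rw [RFrame.flipV, Conic.hom_mulVec, smul_dotProduct, un_dot hR.hf, smul_eq_mul]

theorem RFrame.flipV_isometry {v : Fin 3 → F} (hv : hf3 F q v v ≠ 0) (x y : Fin 3 → F) :
    hf3 F q ((hR.flipV v hv : M3) *ᵥ x) ((hR.flipV v hv : M3) *ᵥ y) = hf3 F q x y := by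
  have hf := hR.hf
  have hn : ∀ a b, hf3 F q (-a) b = -hf3 F q a b := fun a b => by rw [← neg_one_smul F a, hf.smul_left]; ring
  have hn' : ∀ a b, hf3 F q a (-b) = -hf3 F q a b := fun a b => by
    rw [← neg_one_smul F b, un_smul_right hf, map_neg, map_one]; ring
  have hvv : τ (hf3 F q v v) = hf3 F q v v := fix_self hf v
  rw [hR.flipV_mulVec, hR.flipV_mulVec]
  simp only [hf.add_left, un_add_right hf, hf.smul_left, un_smul_right hf, hn, hn', map_mul, map_div₀, map_ofNat, hvv,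
    ← hf.herm v y]
  field_simp
  ring

theorem RFrame.flipV_mem_su {v : Fin 3 → F} (hv : hf3 F q v v ≠ 0) : hR.flipV v hv ∈ su3 F q :=
  ⟨(mem_GU_iff _).2 (hR.flipV_isometry hv), Conic.hom_mem_sl3 _ _ _⟩

theorem RFrame.Y_mem_su (s : F₀) : hR.Y s ∈ su3 F q :=
  ⟨(mem_GU_iff _).2 (hR.Y_isometry s), unSiegel_mem_SL _ _ _ _⟩

/-- An element of the unitary group carrying the frame to real vectors lies in the orthogonal subgroup. -/
theorem RFrame.mem_H {k : GL (Fin 3) F} (hk : k ∈ su3 F q) (h1 : Rl F₀ P ((k : M3) *ᵥ c))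
    (h2 : Rl F₀ P ((k : M3) *ᵥ w)) (h3 : Rl F₀ P ((k : M3) *ᵥ g)) :
    k ∈ Cfsg.Geo.subfieldSubgroup F₀ P ⊓ su3 F q := by
  refine ⟨mem_subfieldSubgroup fun i => ?_, hk⟩
  have he : Rl F₀ P ((P : M3) *ᵥ Pi.single i 1) := by
    show RatV F₀ _
    rw [Matrix.mulVec_mulVec, ← Units.val_mul, inv_mul_cancel, Units.val_one, Matrix.one_mulVec]
    exact ratV_single i F₀.one_mem
  obtain ⟨e1, e2, e3⟩ := hR.coord _ he
  rw [hR.expand ((P : M3) *ᵥ Pi.single i 1), Matrix.mulVec_add, Matrix.mulVec_add, Matrix.mulVec_smul,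
    Matrix.mulVec_smul, Matrix.mulVec_smul]
  exact ((h1.smul e2).add (h2.smul (F₀.div_mem e3 hR.om))).add (h3.smul e1)

theorem RFrame.Y_mem_H (s : F₀) : hR.Y s ∈ Cfsg.Geo.subfieldSubgroup F₀ P ⊓ su3 F q := by
  refine hR.mem_H (hR.Y_mem_su s) ?_ ?_ ?_
  · rw [hR.Y_c]; exact hR.rc
  · rw [hR.Y_w]; exact hR.rw.add (hR.rc.smul (F₀.neg_mem (F₀.mul_mem s.2 hR.om)))
  · rw [hR.Y_g]
    exact (hR.rg.add (hR.rw.smul s.2)).add
      (hR.rc.smul (F₀.div_mem (F₀.neg_mem (F₀.mul_mem (pow_mem s.2 2) hR.om))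
        (by rw [← one_add_one_eq_two]; exact F₀.add_mem F₀.one_mem F₀.one_mem)))

/-- A real anisotropic vector gives a flip in the orthogonal subgroup. -/
theorem RFrame.flipV_mem_H {v : Fin 3 → F} (hv : hf3 F q v v ≠ 0) (hr : Rl F₀ P v) :
    hR.flipV v hv ∈ Cfsg.Geo.subfieldSubgroup F₀ P ⊓ su3 F q := by
  obtain ⟨e1, e2, e3⟩ := hR.coord v hr
  have hvv : hf3 F q v v ∈ F₀ := (hR.fixed _).2 (fix_self hR.hf v)
  have h2 : (2 : F) ∈ F₀ := by rw [← one_add_one_eq_two]; exact F₀.add_mem F₀.one_mem F₀.one_mem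
  have key : ∀ x, Rl F₀ P x → hf3 F q v x ∈ F₀ → Rl F₀ P ((hR.flipV v hv : M3) *ᵥ x) := fun x hx hxv => by
    rw [hR.flipV_mulVec, ← neg_one_smul F x]
    refine (hx.smul (F₀.neg_mem F₀.one_mem)).add (hr.smul (F₀.mul_mem (F₀.div_mem h2 hvv) ?_))
    rw [hR.hf.herm, (hR.fixed _).1 hxv]; exact hxv
  exact hR.mem_H (hR.flipV_mem_su hv) (key c hR.rc e1) (key w hR.rw e3) (key g hR.rg e2)

theorem RFrame.flip_cg_ne {t : F₀} (ht : t ≠ 0) :
    hf3 F q (c + (t : F) • g) (c + (t : F) • g) ≠ 0 := by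
  have hf := hR.hf
  have e : hf3 F q (c + (t : F) • g) (c + (t : F) • g) = 2 * (t : F) := by
    simp only [hf.add_left, un_add_right hf, hf.smul_left, un_smul_right hf, hR.frame.cc, hR.frame.gg, hR.gc',
      hR.frame.gc, hR.tau t.2]
    ring
  rw [e]
  exact mul_ne_zero hR.two fun h => ht (Subtype.ext h)

/-- The flip exchanging the two isotropic vectors. -/
noncomputable def RFrame.S (t : F₀) (ht : t ≠ 0) : GL (Fin 3) F :=
  hR.flipV (c + (t : F) • g) (hR.flip_cg_ne ht)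

theorem RFrame.S_apply {t : F₀} (ht : t ≠ 0) :
    (hR.S t ht : M3) *ᵥ c = (t : F) • g ∧ (hR.S t ht : M3) *ᵥ g = (t : F)⁻¹ • c ∧
      (hR.S t ht : M3) *ᵥ w = -w := by
  have hf := hR.hf
  have e : hf3 F q (c + (t : F) • g) (c + (t : F) • g) = 2 * (t : F) := by
    simp only [hf.add_left, un_add_right hf, hf.smul_left, un_smul_right hf, hR.frame.cc, hR.frame.gg, hR.gc',
      hR.frame.gc, hR.tau t.2]
    ring
  have ht0 : (t : F) ≠ 0 := fun h => ht (Subtype.ext h)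
  have h2 := hR.two
  simp only [RFrame.S, hR.flipV_mulVec, e, un_add_right hf, un_smul_right hf, hR.frame.cc, hR.frame.gg, hR.gc',
    hR.frame.gc, hR.frame.wc, hR.frame.wg, hR.tau t.2]
  refine ⟨?_, ?_, ?_⟩ <;> match_scalars <;> field_simp <;> ring

/-- The torus. -/
noncomputable def RFrame.T (a : F₀) (ha : a ≠ 0) : GL (Fin 3) F :=
  hR.S 1 one_ne_zero * hR.S a ha

theorem RFrame.T_apply {a : F₀} (ha : a ≠ 0) :
    (hR.T a ha : M3) *ᵥ c = (a : F) • c ∧ (hR.T a ha : M3) *ᵥ g = (a : F)⁻¹ • g ∧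
      (hR.T a ha : M3) *ᵥ w = w := by
  obtain ⟨h1, h2, h3⟩ := hR.S_apply ha
  obtain ⟨k1, k2, k3⟩ := hR.S_apply (one_ne_zero : (1 : F₀) ≠ 0)
  refine ⟨?_, ?_, ?_⟩ <;> rw [RFrame.T, Units.val_mul, ← Matrix.mulVec_mulVec]
  · rw [h1, Matrix.mulVec_smul, k2]; simp
  · rw [h2, Matrix.mulVec_smul, k1]; simp
  · rw [h3, Matrix.mulVec_neg, k3, neg_neg]

theorem RFrame.S_mem_H {t : F₀} (ht : t ≠ 0) : hR.S t ht ∈ Cfsg.Geo.subfieldSubgroup F₀ P ⊓ su3 F q :=
  hR.flipV_mem_H _ (hR.rc.add (hR.rg.smul t.2))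

theorem RFrame.T_mem_H {a : F₀} (ha : a ≠ 0) : hR.T a ha ∈ Cfsg.Geo.subfieldSubgroup F₀ P ⊓ su3 F q :=
  mul_mem (hR.S_mem_H one_ne_zero) (hR.S_mem_H ha)

end

/-- A scalar matrix. -/
def zs (l : Fˣ) : GL (Fin 3) F := Units.map (Matrix.scalar (Fin 3) : F →+* M3).toMonoidHom l

theorem zs_mulVec (l : Fˣ) (x : Fin 3 → F) : (zs l : M3) *ᵥ x = (l : F) • x := by
  funext i
  simp [zs, Matrix.scalar, Matrix.mulVec_diagonal]

theorem zs_comm (l : Fˣ) (k : GL (Fin 3) F) : zs l * k = k * zs l :=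
  Units.ext (Matrix.scalar_commute (l : F) (fun _ => Commute.all _ _) (k : M3)).eq

/-- Overgroups of the orthogonal subgroup in the special unitary group. -/
structure UOver (F₀ : Subfield F) (P : GL (Fin 3) F) (q : ℕ) (M : Subgroup (GL (Fin 3) F)) : Prop where
  le : M ≤ su3 F q
  ge : Cfsg.Geo.subfieldSubgroup F₀ P ⊓ su3 F q ≤ M

variable {M : Subgroup (GL (Fin 3) F)}

theorem UOver.iso (hM : UOver F₀ P q M) {k : GL (Fin 3) F} (hk : k ∈ M) (x y : Fin 3 → F) :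
    hf3 F q ((k : M3) *ᵥ x) ((k : M3) *ᵥ y) = hf3 F q x y :=
  (hM.le hk).1 x y

end CfsgLib.Dim3Max.UOrth
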