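import Cfsg.Agent.Lib.Dim3Max.LinUnitary
import Cfsg.Agent.Lib.Dim3Max.LinOrth
import Cfsg.Agent.Lib.Maximal.RatBasic

/-!
A real frame for a ternary unitary form with a rational structure over the fixed field, and the generators
of the orthogonal subgroup: the unipotent elements, the torus and the flips.
-/

set_option autoImplicit false
set_option linter.unusedSectionVars false

namespace CfsgLib.Dim3Max.UOrth

open scoped Matrix
open CfsgLib.Maximal CfsgLib.Maximal.UnFour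

universe u

variable {F : Type u} [Field F]

local notation "M3" => Matrix (Fin 3) (Fin 3) F

/-- The vector has all coordinates of the rational structure in the subfield. -/
def Rl (F₀ : Subfield F) (P : GL (Fin 3) F) (x : Fin 3 → F) : Prop :=
  RatV F₀ (((P⁻¹ : GL (Fin 3) F) : M3) *ᵥ x)

/-- A frame of the rational structure, with everything needed about it. -/
structure RFrame (q : ℕ) (τ : F ≃+* F) (F₀ : Subfield F) (P : GL (Fin 3) F) (c g w : Fin 3 → F) : Prop where
  hf : Cfsg.Geo.IsUnitaryForm τ (hf3 F q)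
  two : (2 : F) ≠ 0
  fixed : ∀ x : F, x ∈ F₀ ↔ τ x = x
  frame : Herm.Frame (f := hf3 F q) c g w
  rc : Rl F₀ P c
  rg : Rl F₀ P g
  rw : Rl F₀ P w
  om : hf3 F q w w ∈ F₀
  coord : ∀ x, Rl F₀ P x → hf3 F q x c ∈ F₀ ∧ hf3 F q x g ∈ F₀ ∧ hf3 F q x w ∈ F₀

theorem Rl.add {F₀ : Subfield F} {P : GL (Fin 3) F} {x y : Fin 3 → F} (hx : Rl F₀ P x) (hy : Rl F₀ P y) :
    Rl F₀ P (x + y) := fun i => by
  rw [Matrix.mulVec_add]; exact F₀.add_mem (hx i) (hy i)

theorem Rl.smul {F₀ : Subfield F} {P : GL (Fin 3) F} {x : Fin 3 → F} (hx : Rl F₀ P x) {a : F} (ha : a ∈ F₀) :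
    Rl F₀ P (a • x) := fun i => by
  rw [Matrix.mulVec_smul]; exact F₀.mul_mem ha (hx i)

theorem Rl.sub {F₀ : Subfield F} {P : GL (Fin 3) F} {x y : Fin 3 → F} (hx : Rl F₀ P x) (hy : Rl F₀ P y) :
    Rl F₀ P (x - y) := fun i => by
  rw [Matrix.mulVec_sub]; exact F₀.sub_mem (hx i) (hy i)

/-- A matrix preserving the rational structure lies in the subfield group. -/
theorem mem_subfieldSubgroup {F₀ : Subfield F} {P k : GL (Fin 3) F}
    (h : ∀ i, Rl F₀ P ((k : M3) *ᵥ ((P : M3) *ᵥ Pi.single i 1))) : k ∈ Cfsg.Geo.subfieldSubgroup F₀ P := by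
  have hA : RatM F₀ ((P⁻¹ * k * P : GL (Fin 3) F) : M3) := fun i j => by
    have := h j i
    rw [Matrix.mulVec_mulVec, Matrix.mulVec_mulVec, ← Units.val_mul, ← Units.val_mul,
      Matrix.mulVec_single_one] at this
    exact this
  obtain ⟨A₀, hA₀⟩ := hA.lift
  have hdet : IsUnit A₀.det := isUnit_iff_ne_zero.2 fun h0 => by
    have h2 := (RingHom.map_det F₀.subtype A₀).symm
    rw [h0, map_zero, show F₀.subtype.mapMatrix A₀ = A₀.map F₀.subtype from rfl, hA₀] at h2
    have := (Matrix.isUnit_iff_isUnit_det ((P⁻¹ * k * P : GL (Fin 3) F) : M3)).1 ⟨_, rfl⟩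
    rw [h2] at this
    exact not_isUnit_zero this
  refine Subgroup.mem_map.2 ⟨P⁻¹ * k * P, ?_, ?_⟩
  · exact Subgroup.mem_sup_left ⟨Matrix.GeneralLinearGroup.mk'' A₀ hdet, Units.ext hA₀⟩
  · show P * (P⁻¹ * k * P) * P⁻¹ = k
    group

/-- An element of the subfield group is a multiple of one preserving the rational structure. -/
theorem exists_scalar_of_mem {F₀ : Subfield F} {P k : GL (Fin 3) F} (hk : k ∈ Cfsg.Geo.subfieldSubgroup F₀ P) :
    ∃ a : F, a ≠ 0 ∧ ∀ x, Rl F₀ P x → Rl F₀ P (a • ((k : M3) *ᵥ x)) := by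
  obtain ⟨m, hm, rfl⟩ := Subgroup.mem_map.1 hk
  haveI : (Cfsg.Geo.scalars (Fin 3) F).Normal := by
    refine ⟨fun n hn g => ?_⟩
    obtain ⟨a, rfl⟩ := hn
    refine ⟨a, ?_⟩
    rw [eq_mul_inv_iff_mul_eq]
    exact Units.ext (Matrix.scalar_commute (a : F) (fun r => Commute.all _ _) (g : M3)).eq
  obtain ⟨r, ⟨r₀, rfl⟩, z, ⟨a, rfl⟩, rfl⟩ := Subgroup.mem_sup_of_normal_right.1 hm
  refine ⟨((a⁻¹ : Fˣ) : F), Units.ne_zero _, fun x hx => ?_⟩
  set R : GL (Fin 3) F := Matrix.GeneralLinearGroup.map (F₀.subtype : F₀ →+* F) r₀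
  have hR : RatM F₀ (R : M3) := fun i j => (r₀.1 i j).2
  have e : ((P⁻¹ : GL (Fin 3) F) : M3) *ᵥ (((a⁻¹ : Fˣ) : F) •
      (((MulAut.conj P).toMonoidHom (R * Units.map (Matrix.scalar (Fin 3)).toMonoidHom a) : GL (Fin 3) F) : M3) *ᵥ x) =
      (R : M3) *ᵥ (((P⁻¹ : GL (Fin 3) F) : M3) *ᵥ x) := by
    have hz : ((Units.map (Matrix.scalar (Fin 3)).toMonoidHom a : GL (Fin 3) F) : M3) = (a : F) • (1 : M3) := by
      simp [Matrix.scalar, Matrix.smul_one_eq_diagonal]
    simp only [MulEquiv.toMonoidHom_eq_coe, MonoidHom.coe_coe, MulAut.conj_apply, Units.val_mul, hz, Matrix.mul_smul,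
      Matrix.smul_mul, mul_one, Matrix.smul_mulVec, smul_smul, Units.inv_mul, one_smul]
    rw [← Matrix.mulVec_mulVec, ← Matrix.mulVec_mulVec, Matrix.mulVec_mulVec _ _ (P : M3), ← Units.val_mul,
      inv_mul_cancel, Units.val_one, Matrix.one_mulVec]
  show RatV F₀ _
  rw [e]
  exact hR.mulVec hx

variable {q : ℕ} {τ : F ≃+* F}

theorem fixed_of_card [Fintype F] (hs : USetup q τ (F := F)) {F₀ : Subfield F}
    (hcard : Fintype.card F = Nat.card F₀ ^ 2) : Nat.card F₀ = q ∧ ∀ x : F, x ∈ F₀ ↔ τ x = x := by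
  classical
  have hq : Nat.card F₀ = q := by
    have := hcard.symm.trans hs.card
    exact Nat.pow_left_injective two_ne_zero this
  have hone : 1 < q := by have := hs.three_le; omega
  refine ⟨hq, fun x => ⟨fun hx => ?_, fun hx => ?_⟩⟩
  · have h := FiniteField.pow_card (⟨x, hx⟩ : F₀)
    rw [← Nat.card_eq_fintype_card, hq] at h
    rw [hs.pow]
    exact congrArg Subtype.val h
  · by_contra hxF
    have hinj : Function.Injective (Option.elim' x Subtype.val : Option F₀ → F) := by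
      rintro (_ | a) (_ | b) h
      · rfl
      · exact absurd (show x ∈ F₀ by rw [show x = (b : F) from h]; exact b.2) hxF
      · exact absurd (show x ∈ F₀ by rw [← show (a : F) = x from h]; exact a.2) hxF
      · exact congrArg some (Subtype.ext h)
    set p : Polynomial F := Polynomial.X ^ q - Polynomial.X
    have hp : p ≠ 0 := FiniteField.X_pow_card_sub_X_ne_zero F hone
    have hroot : ∀ o : Option F₀, Option.elim' x Subtype.val o ∈ p.roots.toFinset := fun o => by
      rw [Multiset.mem_toFinset, Polynomial.mem_roots hp]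
      have : ∀ y : F, τ y = y → p.IsRoot y := fun y hy => by
        simp [p, ← hs.pow, hy]
      cases o with
      | none => exact this x hx
      | some a =>
        refine this (a : F) ?_
        have h := FiniteField.pow_card a
        rw [← Nat.card_eq_fintype_card, hq] at h
        rw [hs.pow]
        exact congrArg Subtype.val h
    have h1 := Finset.card_le_card_of_injOn (Option.elim' x Subtype.val) (fun o _ => hroot o) hinj.injOn (s := Finset.univ)
    rw [Finset.card_univ, Fintype.card_option, ← Nat.card_eq_fintype_card, hq] at h1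
    have h2 := (Multiset.toFinset_card_le p.roots).trans (Polynomial.card_roots' p)
    rw [FiniteField.X_pow_card_sub_X_natDegree_eq F hone] at h2
    omega

theorem exists_rframe [Fintype F] (hs : USetup q τ (F := F)) (hodd : Odd q) {F₀ : Subfield F} {P : GL (Fin 3) F}
    (hcard : Fintype.card F = Nat.card F₀ ^ 2) (hP : Cfsg.Geo.IsFormRationalStructure (hf3 F q) F₀ 1 P) :
    Nat.card F₀ = q ∧ ∃ c g w, RFrame q τ F₀ P c g w := by
  classical
  obtain ⟨hq, hfix⟩ := fixed_of_card hs hcard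
  refine ⟨hq, ?_⟩
  have hf := hs.form
  have h2 : (2 : F) ≠ 0 := Ring.two_ne_zero fun h => by
    have := FiniteField.even_card_of_char_two h
    rw [hs.card, Nat.pow_mod, Nat.odd_iff.1 hodd] at this
    simp at this
  have hrat : ∀ x y, Rl F₀ P x → Rl F₀ P y → hf3 F q x y ∈ F₀ := fun x y hx hy => by
    have := hP _ _ hx hy
    simpa [Matrix.mulVec_mulVec, ← Units.val_mul] using this
  have he : ∀ i, Rl F₀ P ((P : M3) *ᵥ Pi.single i 1) := fun i => by
    show RatV F₀ _
    rw [Matrix.mulVec_mulVec, ← Units.val_mul, inv_mul_cancel, Units.val_one, Matrix.one_mulVec]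
    exact ratV_single i F₀.one_mem
  -- a rational isotropic vector
  let A₀ : Matrix (Fin 3) (Fin 3) F₀ := fun i j =>
    ⟨hf3 F q ((P : M3) *ᵥ Pi.single i 1) ((P : M3) *ᵥ Pi.single j 1), hrat _ _ (he i) (he j)⟩
  let Q₀ : QuadraticForm F₀ (Fin 3 → F₀) := LinearMap.BilinMap.toQuadraticMap (Matrix.toLinearMap₂' F₀ A₀)
  have h20 : (2 : F₀) ≠ 0 := fun h => h2 (by simpa [map_ofNat] using congrArg F₀.subtype h)
  obtain ⟨u₀, -, hu0, hu⟩ := CfsgLib.Maximal.exists_singular_in (Q := Q₀) h20 ⊤ (by simp)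
  set uF : Fin 3 → F := fun i => (u₀ i : F) with huF
  set c := (P : M3) *ᵥ uF with hcdef
  have hc0 : c ≠ 0 := fun h => hu0 (funext fun i => Subtype.ext (congrFun (mulVec_inj P
    (show (P : M3) *ᵥ uF = (P : M3) *ᵥ 0 by rw [Matrix.mulVec_zero]; exact h)) i))
  have hrc : Rl F₀ P c := fun i => by
    rw [hcdef, Matrix.mulVec_mulVec, ← Units.val_mul, inv_mul_cancel, Units.val_one, Matrix.one_mulVec]
    exact (u₀ i).2
  have hsum : c = ∑ i, uF i • ((P : M3) *ᵥ Pi.single i 1) := by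
    rw [hcdef]
    conv_lhs => rw [pi_eq_sum_univ' uF]
    rw [Matrix.mulVec_sum]
    simp [Matrix.mulVec_smul]
  have hcc : hf3 F q c c = 0 := by
    have h1 : hf3 F q c c = ∑ i, ∑ j, uF i * uF j *
        hf3 F q ((P : M3) *ᵥ Pi.single i 1) ((P : M3) *ᵥ Pi.single j 1) := by
      rw [hsum, un_sum_left hf]
      refine Finset.sum_congr rfl fun i _ => ?_
      rw [hf.smul_left, hf.herm, un_sum_left hf, map_sum, Finset.mul_sum]
      refine Finset.sum_congr rfl fun j _ => ?_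
      rw [hf.smul_left, map_mul, ← hf.herm, (hfix _).1 (u₀ j).2, mul_assoc]
    have h3 : Q₀ u₀ = ∑ i, ∑ j, u₀ i * u₀ j * A₀ i j := by
      show Matrix.toLinearMap₂' F₀ A₀ u₀ u₀ = _
      rw [Matrix.toLinearMap₂'_apply]
      simp [mul_assoc]
    rw [h1]
    rw [hu] at h3
    have := congrArg Subtype.val h3.symm
    push_cast at this
    simpa [A₀, huF] using this
  -- a rational partner
  obtain ⟨i, hi⟩ : ∃ i, hf3 F q ((P : M3) *ᵥ Pi.single i 1) c ≠ 0 := by
    by_contra hall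
    push Not at hall
    refine hc0 (eq_zero_of hf fun y => ?_)
    obtain ⟨z, rfl⟩ := mulVec_surj P y
    show hf3 F q ((P : M3) *ᵥ z) c = 0
    rw [pi_eq_sum_univ' z, Matrix.mulVec_sum, un_sum_left hf]
    exact Finset.sum_eq_zero fun j _ => by rw [Matrix.mulVec_smul, hf.smul_left, hall j, mul_zero]
  obtain ⟨y, hy⟩ : ∃ y, y = (hf3 F q ((P : M3) *ᵥ Pi.single i 1) c)⁻¹ • ((P : M3) *ᵥ Pi.single i 1) := ⟨_, rfl⟩
  have hry : Rl F₀ P y := hy ▸ (he i).smul (F₀.inv_mem (hrat _ _ (he i) hrc))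
  have hyc : hf3 F q y c = 1 := by rw [hy, hf.smul_left, inv_mul_cancel₀ hi]
  obtain ⟨g, hg⟩ : ∃ g, g = y - (hf3 F q y y / 2) • c := ⟨_, rfl⟩
  have h2m : (2 : F) ∈ F₀ := by rw [← one_add_one_eq_two]; exact F₀.add_mem F₀.one_mem F₀.one_mem
  have hτyy : τ (hf3 F q y y / 2) = hf3 F q y y / 2 := (hfix _).1 (F₀.div_mem (hrat _ _ hry hry) h2m)
  have hrg : Rl F₀ P g := hg ▸ hry.sub (hrc.smul (F₀.div_mem (hrat _ _ hry hry) h2m))
  have hsubr : ∀ x y z, hf3 F q x (y - z) = hf3 F q x y - hf3 F q x z := fun x y z => by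
    rw [hf.herm, Herm.sub_left hf, map_sub, ← hf.herm, ← hf.herm]
  have hgg : hf3 F q g g = 0 := by
    rw [hg, Herm.sub_left hf, hsubr, hsubr, hf.smul_left, hf.smul_left, un_smul_right hf, un_smul_right hf, hcc,
      hyc, rev_one hf hyc, hτyy]
    field_simp
    ring
  have hgc : hf3 F q g c = 1 := by rw [hg, Herm.sub_left hf, hf.smul_left, hcc, hyc]; ring
  have hcg : hf3 F q c g = 1 := rev_one hf hgc
  -- a rational vector orthogonal to both
  obtain ⟨j, hj⟩ : ∃ j, (P : M3) *ᵥ Pi.single j 1 - hf3 F q ((P : M3) *ᵥ Pi.single j 1) g • c -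
      hf3 F q ((P : M3) *ᵥ Pi.single j 1) c • g ≠ 0 := by
    by_contra hall
    push Not at hall
    obtain ⟨z, hz0, hz⟩ := Herm.exists_perp hf ![c, g]
    refine hz0 (eq_zero_of hf fun x => ?_)
    obtain ⟨x, rfl⟩ := mulVec_surj P x
    show hf3 F q ((P : M3) *ᵥ x) z = 0
    rw [pi_eq_sum_univ' x, Matrix.mulVec_sum, un_sum_left hf]
    refine Finset.sum_eq_zero fun j _ => ?_
    have e := hall j
    rw [sub_sub, sub_eq_zero] at e
    rw [Matrix.mulVec_smul, hf.smul_left, e, hf.add_left, hf.smul_left, hf.smul_left,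
      rev_zero hf (show hf3 F q z c = 0 from hz 0), rev_zero hf (show hf3 F q z g = 0 from hz 1)]
    ring
  set x := (P : M3) *ᵥ Pi.single j 1
  set w := x - hf3 F q x g • c - hf3 F q x c • g with hw
  have hrw : Rl F₀ P w := ((he j).sub (hrc.smul (hrat _ _ (he j) hrg))).sub (hrg.smul (hrat _ _ (he j) hrc))
  have hwc : hf3 F q w c = 0 := by
    rw [hw, Herm.sub_left hf, Herm.sub_left hf, hf.smul_left, hf.smul_left, hcc, hgc]; ring
  have hwg : hf3 F q w g = 0 := by
    rw [hw, Herm.sub_left hf, Herm.sub_left hf, hf.smul_left, hf.smul_left, hcg, hgg]; ring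
  obtain ⟨g', w', h'⟩ := Herm.exists_frame hf hc0 hcc
  have hww : hf3 F q w w ≠ 0 := fun h0 => by
    have e := Herm.frame_expand hf h' w
    rw [hwc, zero_smul, add_zero] at e
    have e1 : hf3 F q w w' = 0 := by
      have h1 := h0
      rw [e] at h1
      simp [hf.add_left, un_add_right hf, hf.smul_left, un_smul_right hf, hcc, h'.wc, rev_zero hf h'.wc,
        h'.ww] at h1
      exact h1
    rw [e1, zero_div, zero_smul, add_zero] at e
    have h3 := hwg
    rw [e, hf.smul_left, hcg, mul_one] at h3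
    exact hj (by rw [e, h3, zero_smul])
  exact ⟨c, g, w, hf, h2, hfix, ⟨hcc, hgg, hgc, hwc, hwg, hww⟩, hrc, hrg, hrw, hrat _ _ hrw hrw,
    fun x hx => ⟨hrat _ _ hx hrc, hrat _ _ hx hrg, hrat _ _ hx hrw⟩⟩

end CfsgLib.Dim3Max.UOrth
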