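import Cfsg.Agent.Lib.Dim3Max.UOrth.Count
import Cfsg.Agent.Lib.PSL2.DicksonPSL

/-!
An overgroup without elations is not transitive on the isotropic points: the centraliser of a real involution
would act transitively on the isotropic points of a line with a stabiliser too large for Dickson's list.
-/

set_option autoImplicit false
set_option linter.unusedSectionVars false

namespace CfsgLib.Dim3Max.UOrth

open scoped Matrix LinearAlgebra.Projectivization
open CfsgLib.Maximal CfsgLib.Maximal.UnFour CfsgLib.PSL2 CfsgLib.Classical MulAction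

universe u

theorem a5_no_six : ∀ x : Equiv.Perm (Fin 5), Equiv.Perm.sign x = 1 → x ^ 6 = 1 → x ^ 2 = 1 ∨ x ^ 3 = 1 := by
  decide +kernel

theorem s4_conj : ∀ r s : Equiv.Perm (Fin 4), r ^ 4 = 1 → r ^ 2 ≠ 1 → s ^ 2 = 1 → s * r * s = r⁻¹ → s ≠ 1 →
    r * s ≠ 1 → ∃ x, x * s * x⁻¹ = r ^ 2 ∨ x * (r * s) * x⁻¹ = r ^ 2 := by
  decide +kernel

variable {F : Type u} [Field F] [Fintype F] {q : ℕ} {τ : F ≃+* F} {F₀ : Subfield F} {P : GL (Fin 3) F}
  {c g w : Fin 3 → F} {M : Subgroup (GL (Fin 3) F)}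

local notation "M3" => Matrix (Fin 3) (Fin 3) F
local notation "M2" => Matrix (Fin 2) (Fin 2) F

/-- The stabiliser of the point of `w`. -/
def stabW (M : Subgroup (GL (Fin 3) F)) (w : Fin 3 → F) : Subgroup M where
  carrier := {k | ∃ l : F, l ≠ 0 ∧ ((k : GL (Fin 3) F) : M3) *ᵥ w = l • w}
  one_mem' := ⟨1, one_ne_zero, by simp⟩
  mul_mem' {k k'} hk hk' := by
    obtain ⟨l, hl, h⟩ := hk
    obtain ⟨l', hl', h'⟩ := hk'
    refine ⟨l' * l, mul_ne_zero hl' hl, ?_⟩
    rw [Subgroup.coe_mul, Units.val_mul, ← Matrix.mulVec_mulVec, h', Matrix.mulVec_smul, h, smul_smul]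
  inv_mem' {k} hk := by
    obtain ⟨l, hl, h⟩ := hk
    refine ⟨l⁻¹, inv_ne_zero hl, ?_⟩
    have e : (((k⁻¹ : M) : GL (Fin 3) F) : M3) *ᵥ (((k : GL (Fin 3) F) : M3) *ᵥ w) = w := by
      rw [Subgroup.coe_inv, Matrix.mulVec_mulVec, ← Units.val_mul, inv_mul_cancel, Units.val_one,
        Matrix.one_mulVec]
    rw [h, Matrix.mulVec_smul] at e
    conv_rhs => rw [← e]
    rw [smul_smul, inv_mul_cancel₀ hl, one_smul]

/-- The matrix on the line orthogonal to `w`. -/
def lineMat (q : ℕ) (c g : Fin 3 → F) (k : GL (Fin 3) F) : Matrix (Fin 2) (Fin 2) F :=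
  !![hf3 F q ((k : M3) *ᵥ c) g, hf3 F q ((k : M3) *ᵥ g) g; hf3 F q ((k : M3) *ᵥ c) c, hf3 F q ((k : M3) *ᵥ g) c]

/-- The isotropic points of the line. -/
def lineIso (τ : F ≃+* F) : Set (ℙ F (Fin 2 → F)) :=
  {p | p.rep 0 * τ (p.rep 1) + p.rep 1 * τ (p.rep 0) = 0}

variable (hR : RFrame q τ F₀ P c g w) (hM : UOver F₀ P q M)
include hR hM

theorem stabW_image {k : M} (hk : k ∈ stabW M w) {x : Fin 3 → F} (hx : hf3 F q x w = 0) :
    hf3 F q (((k : GL (Fin 3) F) : M3) *ᵥ x) w = 0 := by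
  obtain ⟨l, hl, h⟩ := hk
  have e := hM.iso k.2 x w
  rw [h, un_smul_right hR.hf, hx] at e
  exact (mul_eq_zero.1 e).resolve_left fun h0 => hl (τ.injective (by rw [h0, map_zero]))

theorem line_expand {k : M} (hk : k ∈ stabW M w) {x : Fin 3 → F} (hx : hf3 F q x w = 0) :
    ((k : GL (Fin 3) F) : M3) *ᵥ x = hf3 F q (((k : GL (Fin 3) F) : M3) *ᵥ x) g • c +
      hf3 F q (((k : GL (Fin 3) F) : M3) *ᵥ x) c • g := by
  conv_lhs => rw [hR.expand (((k : GL (Fin 3) F) : M3) *ᵥ x)]
  rw [stabW_image hR hM hk hx, zero_div, zero_smul, add_zero]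

/-- The action on the line as a homomorphism. -/
def lineHom : stabW M w →* GL (Fin 2) F :=
  MonoidHom.toHomUnits
    { toFun := fun k => lineMat q c g ((k : M) : GL (Fin 3) F)
      map_one' := by
        ext i j
        fin_cases i <;> fin_cases j <;>
          simp [lineMat, hR.frame.cc, hR.frame.gg, hR.frame.gc, hR.gc']
      map_mul' := fun k k' => by
        have hf := hR.hf
        have e : ∀ x, hf3 F q x w = 0 → ((((k * k' : stabW M w) : M) : GL (Fin 3) F) : M3) *ᵥ x =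
            hf3 F q ((((k' : M) : GL (Fin 3) F) : M3) *ᵥ x) g • ((((k : M) : GL (Fin 3) F) : M3) *ᵥ c) +
              hf3 F q ((((k' : M) : GL (Fin 3) F) : M3) *ᵥ x) c • ((((k : M) : GL (Fin 3) F) : M3) *ᵥ g) := fun x hx => by
          rw [Subgroup.coe_mul, Subgroup.coe_mul, Units.val_mul, ← Matrix.mulVec_mulVec]
          conv_lhs => rw [line_expand hR hM k'.2 hx]
          rw [Matrix.mulVec_add, Matrix.mulVec_smul, Matrix.mulVec_smul]
        have ec := e c hR.cw
        have eg := e g hR.gw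
        ext i j
        fin_cases i <;> fin_cases j <;>
          simp only [lineMat, ec, eg, hf.add_left, hf.smul_left] <;>
          simp [Matrix.mul_apply, Fin.sum_univ_two, mul_comm] }

theorem lineHom_val (k : stabW M w) :
    ((lineHom hR hM k : GL (Fin 2) F) : M2) = lineMat q c g ((k : M) : GL (Fin 3) F) := rfl

/-- The action on the points of the line. -/
noncomputable def lineP : stabW M w →* Matrix.ProjGenLinGroup (Fin 2) F :=
  Matrix.ProjGenLinGroup.mk.comp (lineHom hR hM)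

/-- A stabilised pair: an element of the stabiliser of `w` with diagonal action. -/
theorem stab_diag (hel : ¬ HasElation M) {k : stabW M w} (h10 : lineMat q c g ((k : M) : GL (Fin 3) F) 1 0 = 0) :
    ∃ (l : Fˣ) (a : F₀) (ha : a ≠ 0), (l : F) ^ 3 = 1 ∧ ((k : M) : GL (Fin 3) F) = zs l * hR.T a ha := by
  have hf := hR.hf
  have hc : (((k : M) : GL (Fin 3) F) : M3) *ᵥ c = hf3 F q ((((k : M) : GL (Fin 3) F) : M3) *ᵥ c) g • c := by
    conv_lhs => rw [line_expand hR hM k.2 hR.cw]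
    rw [show hf3 F q ((((k : M) : GL (Fin 3) F) : M3) *ᵥ c) c = 0 by simpa [lineMat] using h10, zero_smul, add_zero]
  obtain ⟨l, a, s, ha, -, hl3, he⟩ := stab_eq hR hM hel (k : M).2 hc
  obtain ⟨r, hr, hw⟩ := k.2
  obtain ⟨T1, T2, T3⟩ := hR.T_apply ha
  have h := congrArg (fun v => hf3 F q v g) hw
  simp only [he, Units.val_mul, ← Matrix.mulVec_mulVec, hR.Y_w, Matrix.mulVec_add, Matrix.mulVec_smul, T1, T3,
    zs_mulVec, hf.add_left, hf.smul_left, hR.frame.wg, hR.gc', mul_zero, zero_add, mul_one] at h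
  have hs : (s : F) = 0 := by
    have ha0 : (a : F) ≠ 0 := fun h0 => ha (Subtype.ext h0)
    simpa [hR.frame.ww, ha0, l.ne_zero] using h
  refine ⟨l, a, ha, hl3, ?_⟩
  rw [he]
  have hY : hR.Y s = 1 := by
    refine hR.ext ?_ ?_ ?_ <;> rw [Units.val_one, Matrix.one_mulVec]
    · rw [hR.Y_c]
    · rw [hR.Y_w, hs]; simp
    · rw [hR.Y_g, hs]; simp
  rw [hY, mul_one]

/-- Transport: an involution of the group with centre `v` and an isotropic point of its axis. -/
theorem move (hel : ¬ HasElation M) (hall : ∀ p ∈ isoPts F q, ∃ m : M, m • ptC hR = p) {v : Fin 3 → F}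
    (hv : hf3 F q v v ≠ 0) (hflip : hR.flipV v hv ∈ M) {x : Fin 3 → F} (hx0 : x ≠ 0) (hx : hf3 F q x x = 0)
    (hxv : hf3 F q x v = 0) :
    ∃ m : M, (∃ r : F, r ≠ 0 ∧ ((m : GL (Fin 3) F) : M3) *ᵥ c = r • x) ∧
      ∃ b : F, b ≠ 0 ∧ ((m : GL (Fin 3) F) : M3) *ᵥ w = b • v := by
  have hf := hR.hf
  obtain ⟨m, hm⟩ := hall _ ((mk_mem_isoPts hR hx0).2 hx)
  have hm' : (m : GL (Fin 3) F) • Projectivization.mk F c _ = Projectivization.mk F x hx0 := hm
  rw [smul_mk_eq, Projectivization.mk_eq_mk_iff'] at hm'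
  obtain ⟨r, hr⟩ := hm'
  have hr0 : r ≠ 0 := fun h0 => mulVec_ne_zero (m : GL (Fin 3) F) (show c ≠ 0 from fun hc => by
    have h1 := hR.gc'
    rw [hc, un_zero_left hf] at h1
    exact zero_ne_one h1) (by rw [← hr, h0, zero_smul])
  set G : GL (Fin 3) F := (m : GL (Fin 3) F)
  set v' := ((G⁻¹ : GL (Fin 3) F) : M3) *ᵥ v with hv'
  have hGv : (G : M3) *ᵥ v' = v := by
    rw [hv', Matrix.mulVec_mulVec, ← Units.val_mul, mul_inv_cancel, Units.val_one, Matrix.one_mulVec]
  set k := G⁻¹ * hR.flipV v hv * G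
  have hk : k ∈ M := mul_mem (mul_mem (inv_mem m.2) hflip) m.2
  have ek : ∀ y, (k : M3) *ᵥ y = -y + (2 / hf3 F q v v * hf3 F q y v') • v' := fun y => by
    rw [Units.val_mul, Units.val_mul, ← Matrix.mulVec_mulVec, ← Matrix.mulVec_mulVec, hR.flipV_mulVec,
      Matrix.mulVec_add, Matrix.mulVec_neg, Matrix.mulVec_smul, ← hv']
    rw [show hf3 F q ((G : M3) *ᵥ y) v = hf3 F q y v' by rw [← hM.iso m.2 y v', hGv]]
    rw [Matrix.mulVec_mulVec, ← Units.val_mul, inv_mul_cancel, Units.val_one, Matrix.one_mulVec]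
  have hcv : hf3 F q c v' = 0 := by
    rw [← hM.iso m.2 c v', hGv, ← hr, hf.smul_left, hxv, mul_zero]
  have hkc : (k : M3) *ᵥ c = (-1 : F) • c := by rw [ek, hcv]; simp
  obtain ⟨l, a, s, ha, -, -, he⟩ := stab_eq hR hM hel hk hkc
  set A := hf3 F q v' g
  set B := hf3 F q v' w / hf3 F q w w with hB
  have he' : v' = A • c + B • w := by
    conv_lhs => rw [hR.expand v']
    rw [rev_zero hf hcv, zero_smul, add_zero]
  have hvv : hf3 F q v v = B * τ B * hf3 F q w w := by
    rw [← hGv, hM.iso m.2, he']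
    simp only [hf.add_left, un_add_right hf, hf.smul_left, un_smul_right hf, hR.frame.cc, hR.frame.wc, hR.cw,
      mul_zero, add_zero, zero_add]
    ring
  have hB0 : B ≠ 0 := fun h0 => hv (by rw [hvv, h0]; ring)
  have hτB : τ B ≠ 0 := fun h => hB0 (τ.injective (by rw [h, map_zero]))
  have hkw : (k : M3) *ᵥ w = (2 * A / B) • c + w := by
    rw [ek]
    rw [show hf3 F q w v' = τ B * hf3 F q w w by
      rw [he', un_add_right hf, un_smul_right hf, un_smul_right hf, hR.frame.wc, mul_zero, zero_add]]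
    rw [hvv, he']
    have hω := hR.frame.ww
    match_scalars <;> field_simp
    ring
  obtain ⟨T1, T2, T3⟩ := hR.T_apply ha
  rw [he, Units.val_mul, Units.val_mul, ← Matrix.mulVec_mulVec, ← Matrix.mulVec_mulVec, hR.Y_w, Matrix.mulVec_add,
    Matrix.mulVec_smul, T1, T3, zs_mulVec] at hkw
  have k2 := congrArg (fun y => hf3 F q y w) hkw
  have k1 := congrArg (fun y => hf3 F q y g) hkw
  simp only [hf.add_left, hf.smul_left, hR.cw, hR.frame.wg, hR.gc', mul_zero, zero_add, add_zero, mul_one] at k1 k2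
  have hl : (l : F) = 1 := mul_right_cancel₀ hR.frame.ww (k2.trans (one_mul _).symm)
  rw [hl, one_mul] at k1
  have hAB : A / B = -((s : F) * hf3 F q w w) * a / 2 := by
    have := hR.two
    field_simp at k1 ⊢
    linear_combination -k1
  have hmem : -(A / B) / hf3 F q w w ∈ F₀ := by
    rw [hAB]
    exact F₀.div_mem (F₀.neg_mem (F₀.div_mem (F₀.mul_mem (F₀.neg_mem (F₀.mul_mem s.2 hR.om)) a.2)
      (by rw [← one_add_one_eq_two]; exact F₀.add_mem F₀.one_mem F₀.one_mem))) hR.om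
  set u : F₀ := ⟨_, hmem⟩
  refine ⟨m * ⟨hR.Y u, hM.ge (hR.Y_mem_H u)⟩, ⟨r, hr0, ?_⟩, B⁻¹, inv_ne_zero hB0, ?_⟩
  · rw [Subgroup.coe_mul, Units.val_mul, ← Matrix.mulVec_mulVec, hR.Y_c]
    exact hr.symm
  · rw [Subgroup.coe_mul, Units.val_mul, ← Matrix.mulVec_mulVec, hR.Y_w, ← hGv, ← Matrix.mulVec_smul]
    congr 1
    rw [he', show (u : F) = -(A / B) / hf3 F q w w from rfl]
    have hω := hR.frame.ww
    match_scalars <;> field_simp

omit hM in
theorem mem_lineIso {v : Fin 2 → F} (hv : v ≠ 0) :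
    Projectivization.mk F v hv ∈ lineIso τ ↔ v 0 * τ (v 1) + v 1 * τ (v 0) = 0 := by
  obtain ⟨a, ha⟩ := Projectivization.exists_smul_eq_mk_rep F v hv
  show _ = 0 ↔ _
  rw [← ha]
  simp only [Units.smul_def, Pi.smul_apply, smul_eq_mul, map_mul]
  have e : (a : F) * v 0 * (τ a * τ (v 1)) + a * v 1 * (τ a * τ (v 0)) =
      (a * τ a) * (v 0 * τ (v 1) + v 1 * τ (v 0)) := by ring
  rw [e, mul_eq_zero]
  simp [a.ne_zero]

omit hM in
theorem card_lineIso (hq : Nat.card F₀ = q) : Nat.card (lineIso τ) = q + 1 := by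
  classical
  obtain ⟨k, hk0, hk⟩ := un_skew_exists hR.hf
  have hne : ∀ x : F, (![x, 1] : Fin 2 → F) ≠ 0 := fun x h => by simpa using congrFun h 1
  let φ : Option F₀ → lineIso τ := fun o => o.elim
    ⟨pInf F, by rw [pInf, mem_lineIso hR]; simp⟩
    fun t => ⟨Projectivization.mk F ![k * t, 1] (hne _), by
      rw [mem_lineIso hR]; simp [hk, hR.tau t.2]⟩
  have hbij : Function.Bijective φ := by
    constructor
    · intro a b h
      have h' := congrArg Subtype.val h
      cases a <;> cases b <;> simp only [φ, Option.elim_none, Option.elim_some, pInf] at h'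
      · rfl
      · obtain ⟨r, hr⟩ := (Projectivization.mk_eq_mk_iff' F _ _ _ _).1 h'.symm
        have := congrFun hr 1
        simp at this
      · obtain ⟨r, hr⟩ := (Projectivization.mk_eq_mk_iff' F _ _ _ _).1 h'
        have := congrFun hr 1
        simp at this
      · obtain ⟨r, hr⟩ := (Projectivization.mk_eq_mk_iff' F _ _ _ _).1 h'
        have h1 := congrFun hr 1
        have h0 := congrFun hr 0
        simp at h1 h0
        rw [h1, one_mul] at h0
        exact congrArg some (Subtype.ext (mul_left_cancel₀ hk0 h0).symm)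
    · rintro ⟨p, hp⟩
      induction p using Projectivization.ind with
      | _ v hv =>
        rw [mem_lineIso hR] at hp
        by_cases h1 : v 1 = 0
        · refine ⟨none, Subtype.ext ?_⟩
          show pInf F = _
          rw [pInf, eq_comm, Projectivization.mk_eq_mk_iff']
          exact ⟨v 0, by funext i; fin_cases i <;> simp [h1]⟩
        · have ht : v 0 / v 1 / k ∈ F₀ := (hR.fixed _).2 (by
            have : τ (v 1) ≠ 0 := fun h => h1 (τ.injective (by rw [h, map_zero]))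
            rw [map_div₀, map_div₀, hk]
            field_simp
            linear_combination -hp)
          refine ⟨some ⟨_, ht⟩, Subtype.ext ?_⟩
          show Projectivization.mk F _ _ = _
          rw [eq_comm, Projectivization.mk_eq_mk_iff']
          refine ⟨v 1, ?_⟩
          funext i
          fin_cases i <;> simp <;> field_simp
  rw [← Nat.card_congr (Equiv.ofBijective φ hbij), Finite.card_option, hq]

/-- The torus in the action on the line. -/
noncomputable def torusHom : F₀ˣ →* Matrix.ProjGenLinGroup (Fin 2) F where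
  toFun a := lineP hR hM ⟨⟨hR.T (a : F₀) a.ne_zero, hM.ge (hR.T_mem_H _)⟩, 1, one_ne_zero, by
    rw [one_smul]; exact (hR.T_apply a.ne_zero).2.2⟩
  map_one' := by
    refine mk_eq_one_of_entries ?_ ?_ ?_ <;> rw [lineHom_val] <;>
      simp [lineMat, (hR.T_apply (one_ne_zero : (1 : F₀) ≠ 0)).1, (hR.T_apply (one_ne_zero : (1 : F₀) ≠ 0)).2.1,
        hR.frame.cc, hR.frame.gg, hR.frame.gc, hR.gc', hR.hf.smul_left]
  map_mul' a b := by
    rw [← map_mul]
    refine congrArg _ (Subtype.ext (Subtype.ext ?_))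
    show hR.T _ _ = hR.T _ _ * hR.T _ _
    obtain ⟨a1, a2, a3⟩ := hR.T_apply a.ne_zero
    obtain ⟨b1, b2, b3⟩ := hR.T_apply b.ne_zero
    obtain ⟨c1, c2, c3⟩ := hR.T_apply (a * b : F₀ˣ).ne_zero
    refine hR.ext ?_ ?_ ?_ <;> rw [Units.val_mul (hR.T _ _), ← Matrix.mulVec_mulVec]
    · rw [c1, b1, Matrix.mulVec_smul, a1, smul_smul]; congr 1; push_cast; ring
    · rw [c3, b3, a3]
    · rw [c2, b2, Matrix.mulVec_smul, a2, smul_smul]; congr 1; push_cast; ring

end CfsgLib.Dim3Max.UOrth
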