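import Cfsg.Agent.Lib.Dim3Max.UOrth.Line
import Cfsg.Agent.Lib.PSL2.Geo

/-!
The group induced on the isotropic points of the line: it has order `(q² - 1) / 2`, prime to `p`, and is
none of the groups in Dickson's list except two small cases.
-/

set_option autoImplicit false
set_option linter.unusedSectionVars false

namespace CfsgLib.Dim3Max.UOrth

open scoped Matrix LinearAlgebra.Projectivization
open CfsgLib.Maximal CfsgLib.Maximal.UnFour CfsgLib.PSL2 CfsgLib.Classical MulAction

universe u

variable {F : Type u} [Field F] [Fintype F] {q : ℕ} {τ : F ≃+* F} {F₀ : Subfield F} {P : GL (Fin 3) F}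
  {c g w : Fin 3 → F} {M : Subgroup (GL (Fin 3) F)}

local notation "M3" => Matrix (Fin 3) (Fin 3) F
local notation "M2" => Matrix (Fin 2) (Fin 2) F

/-- In a dihedral group conjugation fixes or inverts a square. -/
theorem dihedral_conj_sq {n : ℕ} (g y : DihedralGroup n) :
    g * (y * y) * g⁻¹ = y * y ∨ g * (y * y) * g⁻¹ = (y * y)⁻¹ := by
  cases y with
  | sr i => left; simp
  | r i =>
    cases g with
    | r j =>
      left
      simp only [DihedralGroup.r_mul_r, DihedralGroup.inv_r, DihedralGroup.r.injEq]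
      abel
    | sr j =>
      right
      simp only [DihedralGroup.r_mul_r, DihedralGroup.sr_mul_r, DihedralGroup.inv_sr, DihedralGroup.sr_mul_sr,
        DihedralGroup.inv_r, DihedralGroup.r.injEq]
      abel

variable (hR : RFrame q τ F₀ P c g w) (hM : UOver F₀ P q M)
include hR hM

/-- An element `zs l * T a` is diagonal on the line. -/
theorem lineMat_diag (l : Fˣ) {a : F₀} (ha : a ≠ 0) :
    lineMat q c g (zs l * hR.T a ha) = !![(l : F) * a, 0; 0, (l : F) * (a : F)⁻¹] := by
  obtain ⟨T1, T2, -⟩ := hR.T_apply ha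
  ext i j
  fin_cases i <;> fin_cases j <;>
    simp [lineMat, ← Matrix.mulVec_mulVec, zs_mulVec, T1, T2, hR.hf.smul_left, hR.frame.cc, hR.frame.gg,
      hR.frame.gc, hR.gc']

theorem lineP_smul_mk (k : stabW M w) {v : Fin 2 → F} (hv : v ≠ 0) :
    lineP hR hM k • Projectivization.mk F v hv =
      Projectivization.mk F (lineMat q c g ((k : M) : GL (Fin 3) F) *ᵥ v) (by
        intro h
        rw [← lineHom_val hR hM k] at h
        have e := congrArg (((lineHom hR hM k)⁻¹ : GL (Fin 2) F).1 *ᵥ ·) h
        exact hv (by simpa only [Matrix.mulVec_mulVec, Units.inv_mul, Matrix.one_mulVec, Matrix.mulVec_zero] using e)) :=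
  rfl

theorem scalar_of {k : stabW M w} (h : lineP hR hM k = 1) :
    ∃ s : F, lineMat q c g ((k : M) : GL (Fin 3) F) = s • (1 : M2) := by
  obtain ⟨h10, h01, hd⟩ := entries_of_mk_eq_one (g := lineHom hR hM k) h
  rw [lineHom_val] at h10 h01 hd
  refine ⟨lineMat q c g ((k : M) : GL (Fin 3) F) 0 0, ?_⟩
  ext i j
  fin_cases i <;> fin_cases j <;> simp [h10, h01, hd]

theorem one_of {k : stabW M w} {s : F} (h : lineMat q c g ((k : M) : GL (Fin 3) F) = s • (1 : M2)) :
    lineP hR hM k = 1 := by
  refine mk_eq_one_of_entries (g := lineHom hR hM k) ?_ ?_ ?_ <;> rw [lineHom_val, h] <;> simp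

/-- A kernel element is a scalar of order dividing six on the line. -/
theorem kernel_scalar (hel : ¬ HasElation M) {k : stabW M w} (h : lineP hR hM k = 1) :
    ∃ s : F, (s ^ 2) ^ 3 = 1 ∧ lineMat q c g ((k : M) : GL (Fin 3) F) = s • (1 : M2) := by
  obtain ⟨s, hs⟩ := scalar_of hR hM h
  obtain ⟨l, a, ha, hl3, he⟩ := stab_diag hR hM hel (k := k) (by rw [hs]; simp)
  refine ⟨s, ?_, hs⟩
  rw [he, lineMat_diag hR hM l ha] at hs
  have h0 := congrFun (congrFun hs 0) 0
  have h1 := congrFun (congrFun hs 1) 1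
  simp at h0 h1
  have hss : s ^ 2 = (l : F) ^ 2 := by
    have ha0 : (a : F) ≠ 0 := fun h0 => ha (Subtype.ext h0)
    rw [pow_two s]
    nth_rewrite 1 [← h0]
    rw [← h1]
    field_simp
  rw [hss, ← pow_mul, mul_comm 2 3, pow_mul, hl3, one_pow]

theorem torusHom_eq_one {a : F₀ˣ} : torusHom hR hM a = 1 ↔ a ^ 2 = 1 := by
  have ha0 : ((a : F₀) : F) ≠ 0 := fun h0 => a.ne_zero (Subtype.ext h0)
  obtain ⟨T1, T2, -⟩ := hR.T_apply a.ne_zero
  constructor
  · intro h
    obtain ⟨-, -, hd⟩ := entries_of_mk_eq_one (g := lineHom hR hM _) h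
    rw [lineHom_val] at hd
    simp [lineMat, T1, T2, hR.hf.smul_left, hR.frame.gc, hR.gc'] at hd
    refine Units.ext (Subtype.ext ?_)
    push_cast
    field_simp at hd
    linear_combination hd
  · intro h
    refine mk_eq_one_of_entries (g := lineHom hR hM _) ?_ ?_ ?_ <;> rw [lineHom_val] <;>
      simp [lineMat, T1, T2, hR.hf.smul_left, hR.frame.cc, hR.frame.gg, hR.frame.gc, hR.gc']
    have h' : ((a : F₀) : F) ^ 2 = 1 := by
      have := congrArg (fun x : F₀ˣ => ((x : F₀) : F)) h
      simpa using this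
    field_simp
    linear_combination h'

theorem card_torus (hq : Nat.card F₀ = q) : 2 * Nat.card (torusHom hR hM).range = q - 1 := by
  classical
  have hk : Nat.card (torusHom hR hM).ker = 2 := by
    rw [← SetLike.coe_sort_coe, Nat.card_coe_set_eq, Set.ncard_eq_two]
    refine ⟨1, -1, fun h => hR.two ?_, ?_⟩
    · have := congrArg (fun x : F₀ˣ => ((x : F₀) : F)) h
      simp at this
      linear_combination this
    · ext a
      simp only [SetLike.mem_coe, MonoidHom.mem_ker, torusHom_eq_one hR hM, Set.mem_insert_iff,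
        Set.mem_singleton_iff, sq, ← Units.val_inj, Units.val_mul, Units.val_one, Units.val_neg]
      exact mul_self_eq_one_iff
  have h := (torusHom hR hM).ker.card_mul_index
  rw [Subgroup.index_ker, hk, Nat.card_units, hq] at h
  exact h

/-- The facts about the group on the line. -/
theorem line_group (hq : Nat.card F₀ = q) (hel : ¬ HasElation M)
    (hall : ∀ p ∈ isoPts F q, ∃ m : M, m • ptC hR = p) :
    orbit (lineP hR hM).range (pInf F) = lineIso τ ∧ 2 * Nat.card (lineP hR hM).range = (q + 1) * (q - 1) := by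
  classical
  have hf := hR.hf
  have horb : orbit (lineP hR hM).range (pInf F) = lineIso τ := by
    ext p
    constructor
    · rintro ⟨⟨_, k, rfl⟩, rfl⟩
      show lineP hR hM k • pInf F ∈ lineIso τ
      rw [pInf, lineP_smul_mk hR hM, mem_lineIso hR]
      have e := hM.iso (k : M).2 c c
      rw [hR.frame.cc, line_expand hR hM k.2 hR.cw] at e
      simp only [hf.add_left, un_add_right hf, hf.smul_left, un_smul_right hf, hR.frame.cc, hR.frame.gg,
        hR.frame.gc, hR.gc', mul_zero, add_zero, zero_add, mul_one] at e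
      simp [lineMat]
      linear_combination e
    · intro hp
      induction p using Projectivization.ind with
      | _ v hv =>
        rw [mem_lineIso hR] at hp
        have hx0 : v 0 • c + v 1 • g ≠ 0 := fun h0 => hv (funext fun i => by
          obtain ⟨e1, -, e3⟩ := hR.coef (α := v 0) (β := (0 : F)) (δ := v 1)
          rw [zero_smul, add_zero, h0, un_zero_left hf] at e1 e3
          fin_cases i
          · exact e1.symm
          · exact e3.symm)
        have hxx : hf3 F q (v 0 • c + v 1 • g) (v 0 • c + v 1 • g) = 0 := by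
          simp only [hf.add_left, un_add_right hf, hf.smul_left, un_smul_right hf, hR.frame.cc, hR.frame.gg,
            hR.frame.gc, hR.gc', mul_zero, add_zero, zero_add, mul_one]
          linear_combination hp
        have hxw : hf3 F q (v 0 • c + v 1 • g) w = 0 := by
          simp [hf.add_left, hf.smul_left, hR.cw, hR.gw]
        obtain ⟨m, ⟨r, hr, hmc⟩, b, hb, hmw⟩ :=
          move hR hM hel hall hR.frame.ww (hM.ge (hR.flipV_mem_H _ hR.rw)) hx0 hxx hxw
        refine ⟨⟨lineP hR hM ⟨m, b, hb, hmw⟩, ⟨_, rfl⟩⟩, ?_⟩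
        show lineP hR hM _ • pInf F = _
        rw [pInf, lineP_smul_mk hR hM, Projectivization.mk_eq_mk_iff']
        refine ⟨r, ?_⟩
        funext i
        fin_cases i <;>
          simp [lineMat, hmc, hf.smul_left, hf.add_left, hR.frame.cc, hR.frame.gg, hR.frame.gc, hR.gc']
  refine ⟨horb, ?_⟩
  have hst : (stabilizer (lineP hR hM).range (pInf F)).map (lineP hR hM).range.subtype =
      (torusHom hR hM).range := by
    ext x
    constructor
    · rintro ⟨⟨_, k, rfl⟩, hx, rfl⟩
      have h10 := (fix_pInf_iff (lineHom hR hM k)).1 hx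
      rw [lineHom_val] at h10
      obtain ⟨l, a, ha, -, he⟩ := stab_diag hR hM hel h10
      refine ⟨Units.mk0 a ha, ?_⟩
      show lineP hR hM _ = lineP hR hM k
      refine (Matrix.ProjGenLinGroup.mk_eq_mk_iff).2 ⟨l, Units.ext ?_⟩
      rw [Units.val_mul, lineHom_val, lineHom_val, he, lineMat_diag hR hM l ha]
      obtain ⟨T1, T2, -⟩ := hR.T_apply ha
      ext i j
      fin_cases i <;> fin_cases j <;>
        simp [lineMat, T1, T2, hf.smul_left, hR.frame.cc, hR.frame.gg, hR.frame.gc, hR.gc', mul_comm]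
    · rintro ⟨a, rfl⟩
      refine ⟨⟨_, ⟨_, rfl⟩⟩, ?_, rfl⟩
      refine (fix_pInf_iff _).2 ?_
      rw [lineHom_val]
      simp [lineMat, (hR.T_apply a.ne_zero).1, hf.smul_left, hR.frame.cc]
  have hprod := Nat.card_congr (orbitProdStabilizerEquivGroup (lineP hR hM).range (pInf F))
  rw [Nat.card_prod, horb, card_lineIso hR hq] at hprod
  rw [← hprod, ← Subgroup.card_map_of_injective (lineP hR hM).range.subtype_injective, hst, mul_left_comm,
    card_torus hR hM hq]

theorem two_fixed {a : F₀ˣ} (ha : a ^ 2 ≠ 1) {x : ℙ F (Fin 2 → F)} (h : torusHom hR hM a • x = x) :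
    x = pInf F ∨ x = pZero F := by
  induction x using Projectivization.ind with
  | _ v hv =>
    have h' : lineP hR hM _ • Projectivization.mk F v hv = _ := h
    rw [lineP_smul_mk hR hM, Projectivization.mk_eq_mk_iff'] at h'
    obtain ⟨r, hr⟩ := h'
    obtain ⟨T1, T2, -⟩ := hR.T_apply a.ne_zero
    have h0 := congrFun hr 0
    have h1 := congrFun hr 1
    simp [lineMat, Matrix.mulVec, dotProduct, Fin.sum_univ_two, T1, T2, hR.hf.smul_left, hR.frame.cc, hR.frame.gg,
      hR.frame.gc, hR.gc'] at h0 h1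
    by_cases hv1 : v 1 = 0
    · left
      rw [pInf, Projectivization.mk_eq_mk_iff']
      exact ⟨v 0, by funext i; fin_cases i <;> simp [hv1]⟩
    · right
      have hv0 : v 0 = 0 := by
        by_contra hv0
        rcases h0 with h0 | h0 <;> rcases h1 with h1 | h1 <;> try contradiction
        refine ha (Units.ext (Subtype.ext ?_))
        push_cast
        have : ((a : F₀) : F) ≠ 0 := fun e => a.ne_zero (Subtype.ext e)
        rw [h0] at h1
        field_simp at h1
        linear_combination h1
      rw [pZero, Projectivization.mk_eq_mk_iff']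
      exact ⟨v 1, by funext i; fin_cases i <;> simp [hv0]⟩

/-- Only two small cases are left by Dickson's list. -/
theorem small_cases {p : ℕ} [Fact p.Prime] [CharP F p] (hq : Nat.card F₀ = q) (hF : Fintype.card F = q ^ 2)
    (hq7 : 7 ≤ q) (hel : ¬ HasElation M) (hall : ∀ x ∈ isoPts F q, ∃ m : M, m • ptC hR = x) :
    (q = 7 ∧ Nonempty ((lineP hR hM).range ≃* Equiv.Perm (Fin 4))) ∨
      (q = 11 ∧ Nonempty ((lineP hR hM).range ≃* alternatingGroup (Fin 5))) := by
  classical
  obtain ⟨horb, hcard⟩ := line_group hR hM hq hel hall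
  set G := (lineP hR hM).range
  have hq2 : 2 * Nat.card G + 1 = q * q := by
    obtain ⟨r, rfl⟩ := Nat.exists_eq_add_of_le (show 1 ≤ q by omega)
    rw [hcard, show 1 + r - 1 = r by omega]
    ring
  have hpp : p.Prime := Fact.out
  have hp : ¬ p ∣ 2 * Nat.card G := fun h => by
    obtain ⟨n, hn⟩ := FiniteField.card F p
    rw [hF] at hn
    have h2 : p ∣ 2 * Nat.card G + 1 := by
      rw [hq2, ← pow_two, hn.2]
      exact dvd_pow_self p n.pos.ne'
    exact hpp.not_dvd_one ((Nat.dvd_add_right h).1 h2)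
  have hp' : ¬ p ∣ Nat.card G := fun h => hp (h.mul_left 2)
  -- an element whose conjugates fix only two points
  obtain ⟨b, hb⟩ : ∃ b : F₀ˣ, orderOf b = q - 1 := by
    obtain ⟨b, hb⟩ := IsCyclic.exists_generator (α := F₀ˣ)
    exact ⟨b, by rw [orderOf_eq_card_of_forall_mem_zpowers hb, Nat.card_units, hq]⟩
  have ha : (b * b) ^ 2 ≠ 1 := fun h => by
    have h4 : b ^ 4 = 1 := by rw [← h, ← sq b, ← pow_mul]
    have := orderOf_le_of_pow_eq_one (by norm_num) h4
    omega
  let s : G := ⟨torusHom hR hM b, ⟨_, rfl⟩⟩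
  have hs : ((s * s : G) : Matrix.ProjGenLinGroup (Fin 2) F) = torusHom hR hM (b * b) := by
    rw [Subgroup.coe_mul]
    exact (map_mul _ _ _).symm
  have hconj : ¬ ∀ g : G, g * (s * s) * g⁻¹ = s * s ∨ g * (s * s) * g⁻¹ = (s * s)⁻¹ := fun hall' => by
    have hfix : (s * s) • pInf F = pInf F := by
      show ((s * s : G) : Matrix.ProjGenLinGroup (Fin 2) F) • pInf F = pInf F
      rw [hs]
      refine (fix_pInf_iff _).2 ?_
      rw [lineHom_val]
      show hf3 F q ((hR.T ((b * b : F₀ˣ) : F₀) (b * b).ne_zero : M3) *ᵥ c) c = 0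
      rw [(hR.T_apply _).1, hR.hf.smul_left, hR.frame.cc, mul_zero]
    have hsub : lineIso τ ⊆ {pInf F, pZero F} := fun x hx => by
      rw [← horb] at hx
      obtain ⟨g, rfl⟩ := hx
      have hg : (s * s) • g • pInf F = g • pInf F := by
        rcases hall' g⁻¹ with h | h <;> rw [inv_inv] at h
        · rw [← mul_smul, show s * s * g = g * (s * s) by
            conv_rhs => rw [← h]
            group, mul_smul, hfix]
        · rw [← mul_smul, show s * s * g = g * (s * s)⁻¹ by
            conv_rhs => rw [← h]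
            group, mul_smul, inv_smul_eq_iff.2 hfix.symm]
      refine two_fixed hR hM ha ?_
      rw [← hs]
      exact hg
    have h2 : Nat.card (lineIso τ) ≤ 2 := by
      rw [Nat.card_coe_set_eq]
      exact (Set.ncard_le_ncard hsub (Set.toFinite _)).trans
        ((Set.ncard_insert_le _ _).trans (by rw [Set.ncard_singleton]))
    rw [card_lineIso hR hq] at h2
    omega
  rcases dickson_pgl (F := F) (p := p) G with
    ⟨hc, -⟩ | ⟨r, -, k, -, -, -, -, ⟨i⟩⟩ | ⟨_, hpG, -⟩ | ⟨-, ⟨i⟩⟩ | ⟨-, ⟨i⟩⟩ | ⟨-, ⟨i⟩⟩ | ⟨K, iso⟩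
  · haveI := hc
    letI := IsCyclic.commGroup (α := G)
    exact absurd (fun g => Or.inl (by rw [mul_comm g, mul_inv_cancel_right])) hconj
  · refine absurd (fun g => ?_) hconj
    rcases dihedral_conj_sq (i g) (i s) with h | h
    · exact Or.inl (i.injective (by simpa using h))
    · exact Or.inr (i.injective (by simpa using h))
  · exact absurd hpG hp'
  · have h := Nat.card_congr i.toEquiv
    rw [show Nat.card (alternatingGroup (Fin 4)) = 12 by rw [Nat.card_eq_fintype_card]; rfl] at h
    nlinarith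
  · have h := Nat.card_congr i.toEquiv
    rw [show Nat.card (Equiv.Perm (Fin 4)) = 24 by rw [Nat.card_eq_fintype_card]; rfl] at h
    exact Or.inl ⟨by nlinarith, ⟨i⟩⟩
  · have h := Nat.card_congr i.toEquiv
    rw [show Nat.card (alternatingGroup (Fin 5)) = 60 by rw [Nat.card_eq_fintype_card]; rfl] at h
    exact Or.inr ⟨by nlinarith, ⟨i⟩⟩
  · refine absurd ?_ hp
    haveI : CharP K p := (algebraMap K F).charP (algebraMap K F).injective p
    haveI := Fintype.ofFinite K
    have hK : p ∣ Nat.card K := by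
      obtain ⟨n, hn⟩ := FiniteField.card K p
      rw [Nat.card_eq_fintype_card, hn.2]
      exact dvd_pow_self p n.pos.ne'
    rcases iso with ⟨⟨i⟩⟩ | ⟨hodd, ⟨i⟩⟩
    · rw [Nat.card_congr i.toEquiv, card_pgl_two rfl]
      exact ((hK.mul_right _).mul_left _).mul_left _
    · have h2 := CfsgLib.Classical.card_PSL_two_mul (F := K)
      rw [CfsgLib.Classical.gcd_two_card_sub_one_of_odd hodd] at h2
      rw [Nat.card_congr i.toEquiv, h2]
      exact hK.mul_right _

end CfsgLib.Dim3Max.UOrth
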