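import Cfsg.Agent.Lib.Dim3Max.UOrth.Elems

/-!
An overgroup without elations meets the stabiliser of a real isotropic point in the orthogonal subgroup only.
-/

set_option autoImplicit false
set_option linter.unusedSectionVars false

namespace CfsgLib.Dim3Max.UOrth

open scoped Matrix
open CfsgLib.Maximal CfsgLib.Maximal.UnFour

universe u

variable {F : Type u} [Field F] [Fintype F] {q : ℕ} {τ : F ≃+* F} {F₀ : Subfield F} {P : GL (Fin 3) F}
  {c g w : Fin 3 → F} {M : Subgroup (GL (Fin 3) F)}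

local notation "M3" => Matrix (Fin 3) (Fin 3) F

variable (hR : RFrame q τ F₀ P c g w) (hM : UOver F₀ P q M)
include hR hM

/-- The images of the frame under an element fixing the point of `c`. -/
theorem stab_shape {k : GL (Fin 3) F} (hk : k ∈ M) {α : F} (hkc : (k : M3) *ᵥ c = α • c) :
    α ≠ 0 ∧ ∃ μ l ρ b : F, l ≠ 0 ∧ (k : M3) *ᵥ w = μ • c + l • w ∧
      (k : M3) *ᵥ g = b • c + ρ • w + (τ α)⁻¹ • g ∧
      l * τ l = 1 ∧ μ * α⁻¹ + l * τ ρ * hf3 F q w w = 0 ∧ α * l = τ α := by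
  have hf := hR.hf
  have hf0 : ∀ x y, hf3 F q ((k : M3) *ᵥ x) ((k : M3) *ᵥ y) = hf3 F q x y := hM.iso hk
  have hα : α ≠ 0 := fun h0 => by
    rw [h0, zero_smul, ← Matrix.mulVec_zero (k : M3)] at hkc
    have h1 := hR.gc'
    rw [mulVec_inj k hkc, un_zero_left hf] at h1
    exact zero_ne_one h1
  have hτα : τ α ≠ 0 := fun h => hα (τ.injective (by rw [h, map_zero]))
  have ew := hf0 w c
  rw [hkc, hR.frame.wc, un_smul_right hf, mul_eq_zero] at ew
  have ew0 := ew.resolve_left hτα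
  have eg := hf0 g c
  rw [hkc, hR.frame.gc, un_smul_right hf] at eg
  have eg0 : hf3 F q ((k : M3) *ᵥ g) c = (τ α)⁻¹ := eq_inv_of_mul_eq_one_right eg
  set μ := hf3 F q ((k : M3) *ᵥ w) g
  set l := hf3 F q ((k : M3) *ᵥ w) w / hf3 F q w w
  set b := hf3 F q ((k : M3) *ᵥ g) g
  set ρ := hf3 F q ((k : M3) *ᵥ g) w / hf3 F q w w
  have hw' : (k : M3) *ᵥ w = μ • c + l • w := by
    conv_lhs => rw [hR.expand ((k : M3) *ᵥ w)]
    rw [ew0, zero_smul, add_zero]
  have hg' : (k : M3) *ᵥ g = b • c + ρ • w + (τ α)⁻¹ • g := by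
    conv_lhs => rw [hR.expand ((k : M3) *ᵥ g)]
    rw [eg0]
  have hω := hR.frame.ww
  have hl : l * τ l = 1 := by
    have e := hf0 w w
    rw [hw'] at e
    simp only [hf.add_left, un_add_right hf, hf.smul_left, un_smul_right hf, hR.frame.cc, hR.cw, hR.frame.wc,
      mul_zero, add_zero, zero_add] at e
    refine mul_right_cancel₀ hω ?_
    linear_combination e
  have hwg : μ * α⁻¹ + l * τ ρ * hf3 F q w w = 0 := by
    have e := hf0 w g
    rw [hw', hg', hR.frame.wg] at e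
    simp only [hf.add_left, un_add_right hf, hf.smul_left, un_smul_right hf, hR.frame.cc, hR.cw, hR.frame.wc,
      hR.gc', hR.frame.wg, map_inv₀, hf.involutive, mul_zero, add_zero, zero_add, mul_one] at e
    linear_combination e
  have hdet : α * l = τ α := by
    let Fr : M3 := Matrix.of fun i j => (![c, w, g] j) i
    let U : M3 := !![α, μ, b; 0, l, ρ; 0, 0, (τ α)⁻¹]
    have hmul : (k : M3) * Fr = Fr * U := by
      ext i j
      have hcol : ((k : M3) * Fr) i j = ((k : M3) *ᵥ (![c, w, g] j)) i := rfl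
      rw [hcol]
      fin_cases j
      · simp [hkc, Fr, U, Matrix.mul_apply, Fin.sum_univ_three, mul_comm]
      · simp [hw', Fr, U, Matrix.mul_apply, Fin.sum_univ_three, mul_comm]
      · simp [hg', Fr, U, Matrix.mul_apply, Fin.sum_univ_three, mul_comm]
    have hFr : Fr.det ≠ 0 := fun h0 => by
      obtain ⟨v, hv, hv0⟩ := Matrix.exists_mulVec_eq_zero_iff.2 h0
      have e : v 0 • c + v 1 • w + v 2 • g = 0 := by
        rw [← hv0]; funext i
        simp [Fr, Matrix.mulVec, dotProduct, Fin.sum_univ_three, mul_comm]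
      obtain ⟨e1, e2, e3⟩ := hR.coef (α := v 0) (β := v 1) (δ := v 2)
      rw [e, un_zero_left hf] at e1 e2 e3
      refine hv (funext fun i => ?_)
      fin_cases i
      · exact e1.symm
      · exact (mul_eq_zero.1 e2.symm).resolve_right hω
      · exact e3.symm
    have h1 := congrArg Matrix.det hmul
    rw [Matrix.det_mul, Matrix.det_mul, (mem_specialLinear_iff k).1 (hM.le hk).2, one_mul] at h1
    have hU : U.det = α * l * (τ α)⁻¹ := by simp [U, Matrix.det_fin_three]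
    rw [hU] at h1
    have h2 : α * l * (τ α)⁻¹ = 1 := (mul_right_eq_self₀.1 h1.symm).resolve_right hFr
    field_simp at h2
    exact h2
  exact ⟨hα, μ, l, ρ, b, left_ne_zero_of_mul_eq_one hl, hw', hg', hl, hwg, hdet⟩

/-- An element acting trivially on the composition factors of the point is unipotent real. -/
theorem unip_eq (hel : ¬ HasElation M) {k : GL (Fin 3) F} (hk : k ∈ M) {μ ρ b : F} (hkc : (k : M3) *ᵥ c = c)
    (hkw : (k : M3) *ᵥ w = μ • c + w) (hkg : (k : M3) *ᵥ g = b • c + ρ • w + g) :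
    ∃ h : ρ ∈ F₀, k = hR.Y ⟨ρ, h⟩ := by
  have hf := hR.hf
  have h2 := hR.two
  have hω := hR.frame.ww
  have hc0 : c ≠ 0 := fun h0 => by
    have h1 := hR.gc'
    rw [h0, un_zero_left hf] at h1
    exact zero_ne_one h1
  have hfc : fvec (hf3 F q) c ≠ 0 := fun h0 => hc0 (un_fvec_injective hf (h0.trans (un_fvec_zero hf).symm))
  have hwg : μ + τ ρ * hf3 F q w w = 0 := by
    have e := hM.iso hk w g
    rw [hkw, hkg, hR.frame.wg] at e
    simp only [hf.add_left, un_add_right hf, hf.smul_left, un_smul_right hf, hR.frame.cc, hR.cw, hR.frame.wc,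
      hR.gc', hR.frame.wg, mul_zero, add_zero, zero_add, mul_one] at e
    linear_combination e
  have small : ∀ m : GL (Fin 3) F, m ∈ M → ∀ δ : F, (m : M3) *ᵥ c = c → (m : M3) *ᵥ w = w →
      (m : M3) *ᵥ g = g + δ • c → δ = 0 ∧ m = 1 := fun m hm δ e1 e2 e3 => by
    have hd : fvec (hf3 F q) c ⬝ᵥ (δ • c) = 0 := un_tv_dot hf hR.frame.cc δ
    have hm' : m = tv (δ • c) (fvec (hf3 F q) c) hd := hR.ext
      (by rw [e1, tv_mulVec, un_dot hf, hR.frame.cc]; simp)
      (by rw [e2, tv_mulVec, un_dot hf, hR.frame.wc]; simp)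
      (by rw [e3, tv_mulVec, un_dot hf, hR.frame.gc, one_smul])
    have hδ : δ = 0 := by
      by_contra hδ
      exact hel ⟨δ • c, _, smul_ne_zero hδ hc0, hfc, hd, hm' ▸ hm⟩
    refine ⟨hδ, hR.ext ?_ ?_ ?_⟩
    · rw [e1, Units.val_one, Matrix.one_mulVec]
    · rw [e2, Units.val_one, Matrix.one_mulVec]
    · rw [e3, hδ, zero_smul, add_zero, Units.val_one, Matrix.one_mulVec]
  -- commutator with a real unipotent element
  have hY1 : hR.Y 1 ∈ M := hM.ge (hR.Y_mem_H 1)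
  set ω := hf3 F q w w
  set δ := μ + ρ * ω with hδ
  have hcomm : (k * hR.Y 1) * (hR.Y 1 * k)⁻¹ ∈ M := mul_mem (mul_mem hk hY1) (inv_mem (mul_mem hY1 hk))
  have hone : ((1 : F₀) : F) = 1 := rfl
  have hdg := small _ hcomm δ
  have hA : ∀ x y, ((hR.Y 1 * k : GL (Fin 3) F) : M3) *ᵥ x = y →
      (((k * hR.Y 1) * (hR.Y 1 * k)⁻¹ : GL (Fin 3) F) : M3) *ᵥ y = ((k * hR.Y 1 : GL (Fin 3) F) : M3) *ᵥ x := by
    intro x y h
    rw [← h, Matrix.mulVec_mulVec, ← Units.val_mul, inv_mul_cancel_right]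
  have a1 : ((hR.Y 1 * k : GL (Fin 3) F) : M3) *ᵥ c = c := by
    rw [Units.val_mul, ← Matrix.mulVec_mulVec, hkc, hR.Y_c]
  have b1 : ((k * hR.Y 1 : GL (Fin 3) F) : M3) *ᵥ c = c := by
    rw [Units.val_mul, ← Matrix.mulVec_mulVec, hR.Y_c, hkc]
  have c1 := (hA _ _ a1).trans b1
  have a2 : ((hR.Y 1 * k : GL (Fin 3) F) : M3) *ᵥ w = w + (μ - ω) • c := by
    rw [Units.val_mul, ← Matrix.mulVec_mulVec, hkw, Matrix.mulVec_add, Matrix.mulVec_smul, hR.Y_c, hR.Y_w, hone]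
    match_scalars <;> ring
  have b2 : ((k * hR.Y 1 : GL (Fin 3) F) : M3) *ᵥ w = w + (μ - ω) • c := by
    rw [Units.val_mul, ← Matrix.mulVec_mulVec, hR.Y_w, Matrix.mulVec_add, Matrix.mulVec_smul, hkc, hkw, hone]
    match_scalars <;> ring
  have c2 := (hA _ _ a2).trans b2
  rw [Matrix.mulVec_add, Matrix.mulVec_smul, c1, add_left_inj] at c2
  have a3 : ((hR.Y 1 * k : GL (Fin 3) F) : M3) *ᵥ g =
      g + (ρ + 1) • w + (b - ρ * ω - ω / 2) • c := by
    rw [Units.val_mul, ← Matrix.mulVec_mulVec, hkg, Matrix.mulVec_add, Matrix.mulVec_add, Matrix.mulVec_smul,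
      Matrix.mulVec_smul, hR.Y_c, hR.Y_w, hR.Y_g, hone]
    match_scalars <;> field_simp <;> ring
  have b3 : ((k * hR.Y 1 : GL (Fin 3) F) : M3) *ᵥ g =
      g + (ρ + 1) • w + (b + μ - ω / 2) • c := by
    rw [Units.val_mul, ← Matrix.mulVec_mulVec, hR.Y_g, Matrix.mulVec_add, Matrix.mulVec_add, Matrix.mulVec_smul,
      Matrix.mulVec_smul, hkc, hkw, hkg, hone]
    match_scalars <;> field_simp <;> ring
  have c3 := (hA _ _ a3).trans b3
  rw [Matrix.mulVec_add, Matrix.mulVec_add, Matrix.mulVec_smul, Matrix.mulVec_smul, c1, c2] at c3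
  have c3' : (((k * hR.Y 1) * (hR.Y 1 * k)⁻¹ : GL (Fin 3) F) : M3) *ᵥ g = g + δ • c := by
    have : g + δ • c = (g + (ρ + 1) • w + (b + μ - ω / 2) • c) - ((ρ + 1) • w + (b - ρ * ω - ω / 2) • c) := by
      rw [hδ]; module
    rw [this, ← c3]; abel
  obtain ⟨hδ0, -⟩ := hdg c1 c2 c3'
  rw [hδ] at hδ0
  have hρτ : τ ρ = ρ := mul_right_cancel₀ hω (by linear_combination hwg - hδ0)
  have hρ : ρ ∈ F₀ := (hR.fixed ρ).2 hρτ
  refine ⟨hρ, ?_⟩
  have hYm : hR.Y ⟨ρ, hρ⟩ ∈ M := hM.ge (hR.Y_mem_H _)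
  have hμ : μ = -(ρ * ω) := by linear_combination hδ0
  set m := k * (hR.Y ⟨ρ, hρ⟩)⁻¹ with hm
  have em : ∀ x, (m : M3) *ᵥ ((hR.Y ⟨ρ, hρ⟩ : M3) *ᵥ x) = (k : M3) *ᵥ x := fun x => by
    rw [hm, Matrix.mulVec_mulVec, ← Units.val_mul, inv_mul_cancel_right]
  have ec : (m : M3) *ᵥ c = c := by
    have h := em c
    rwa [hR.Y_c, hkc] at h
  have ew : (m : M3) *ᵥ w = w := by
    have h := em w
    rw [hR.Y_w, Matrix.mulVec_add, Matrix.mulVec_smul, ec, hkw, hμ] at h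
    linear_combination (norm := (push_cast; module)) h
  have eg : (m : M3) *ᵥ g = g + (b + ρ ^ 2 * ω / 2) • c := by
    have h := em g
    rw [hR.Y_g, Matrix.mulVec_add, Matrix.mulVec_add, Matrix.mulVec_smul, Matrix.mulVec_smul, ec, ew, hkg] at h
    linear_combination (norm := (push_cast; module)) h
  obtain ⟨-, hid⟩ := small m (mul_mem hk (inv_mem hYm)) _ ec ew eg
  exact mul_inv_eq_one.1 hid

/-- The stabiliser of the point of `c`: scalar times torus times unipotent. -/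
theorem stab_eq (hel : ¬ HasElation M) {k : GL (Fin 3) F} (hk : k ∈ M) {α : F} (hkc : (k : M3) *ᵥ c = α • c) :
    ∃ (l : Fˣ) (a s : F₀) (ha : a ≠ 0), (l : F) * τ (l : F) = 1 ∧ (l : F) ^ 3 = 1 ∧
      k = zs l * (hR.T a ha * hR.Y s) := by
  obtain ⟨hα, μ, l, ρ, b, hl0, hkw, hkg, hl, -, hdet⟩ := stab_shape hR hM hk hkc
  have hf := hR.hf
  have hτα : τ α ≠ 0 := fun h => hα (τ.injective (by rw [h, map_zero]))
  set ω := hf3 F q w w
  have hone : ((1 : F₀) : F) = 1 := rfl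
  -- the conjugate of a real unipotent element is real
  have hY1 : hR.Y 1 ∈ M := hM.ge (hR.Y_mem_H 1)
  have hm : k * hR.Y 1 * k⁻¹ ∈ M := mul_mem (mul_mem hk hY1) (inv_mem hk)
  have e0 : ∀ x, ((k * hR.Y 1 * k⁻¹ : GL (Fin 3) F) : M3) *ᵥ ((k : M3) *ᵥ x) =
      (k : M3) *ᵥ ((hR.Y 1 : M3) *ᵥ x) := fun x => by
    rw [Matrix.mulVec_mulVec, ← Units.val_mul, inv_mul_cancel_right, Units.val_mul, Matrix.mulVec_mulVec]
  have ec : ((k * hR.Y 1 * k⁻¹ : GL (Fin 3) F) : M3) *ᵥ c = c := by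
    have h := e0 c
    rw [hR.Y_c, hkc, Matrix.mulVec_smul] at h
    exact smul_right_injective _ hα h
  have ew : ((k * hR.Y 1 * k⁻¹ : GL (Fin 3) F) : M3) *ᵥ w = (-(ω * α / l)) • c + w := by
    have h := e0 w
    rw [hR.Y_w, Matrix.mulVec_add, Matrix.mulVec_smul, hkw, hkc, hone, Matrix.mulVec_add, Matrix.mulVec_smul,
      Matrix.mulVec_smul, ec] at h
    refine smul_right_injective _ hl0 ?_
    show l • _ = l • _
    rw [smul_add, smul_smul, mul_neg, mul_div_cancel₀ _ hl0]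
    linear_combination (norm := module) h
  obtain ⟨b', eg⟩ : ∃ b', ((k * hR.Y 1 * k⁻¹ : GL (Fin 3) F) : M3) *ᵥ g = b' • c + (τ α * l) • w + g := by
    have h := e0 g
    rw [hR.Y_g, Matrix.mulVec_add, Matrix.mulVec_add, Matrix.mulVec_smul, Matrix.mulVec_smul, hkw, hkg, hkc, hone,
      Matrix.mulVec_add, Matrix.mulVec_add, Matrix.mulVec_smul, Matrix.mulVec_smul, Matrix.mulVec_smul, ec, ew] at h
    refine ⟨τ α * (μ + ρ * (ω * α / l) + -(1 ^ 2 * ω) / 2 * α), smul_right_injective _ (inv_ne_zero hτα) ?_⟩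
    show (τ α)⁻¹ • _ = (τ α)⁻¹ • _
    rw [smul_add, smul_add, smul_smul, smul_smul, ← mul_assoc (τ α)⁻¹ (τ α), inv_mul_cancel₀ hτα,
      ← mul_assoc (τ α)⁻¹ (τ α), inv_mul_cancel₀ hτα]
    linear_combination (norm := module) h
  obtain ⟨hr, -⟩ := unip_eq hR hM hel hm ec ew eg
  have hr' : τ (τ α * l) = τ α * l := (hR.fixed _).1 hr
  rw [map_mul, hf.involutive] at hr'
  -- a cube root of one
  have hτl : τ l = l⁻¹ := eq_inv_of_mul_eq_one_right hl
  have hl3 : l ^ 3 = 1 := by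
    rw [hτl, ← hdet] at hr'
    field_simp at hr'
    linear_combination -hr'
  set L := Units.mk0 l hl0 with hL
  have hzS : zs L ∈ su3 F q := by
    refine ⟨(mem_GU_iff _).2 fun x y => ?_, (mem_specialLinear_iff _).2 ?_⟩
    · show hf3 F q _ _ = hf3 F q _ _
      rw [zs_mulVec, zs_mulVec, hf.smul_left, un_smul_right hf, ← mul_assoc, hL, Units.val_mk0, hl, one_mul]
    · simp [zs, Matrix.scalar, hL, Fin.prod_univ_three]
      linear_combination hl3
  have hzH : zs L ∈ Cfsg.Geo.subfieldSubgroup F₀ P := by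
    refine Subgroup.mem_map.2 ⟨zs L, Subgroup.mem_sup_right ⟨L, rfl⟩, ?_⟩
    show P * zs L * P⁻¹ = zs L
    rw [← zs_comm, mul_inv_cancel_right]
  have hk' : (zs L)⁻¹ * k ∈ M := mul_mem (inv_mem (hM.ge ⟨hzH, hzS⟩)) hk
  have hv : ∀ x y, (k : M3) *ᵥ x = l • y → (((zs L)⁻¹ * k : GL (Fin 3) F) : M3) *ᵥ x = y := fun x y h => by
    rw [Units.val_mul, ← Matrix.mulVec_mulVec, h, ← Units.val_mk0 hl0, ← hL, ← zs_mulVec, Matrix.mulVec_mulVec,
      ← Units.val_mul, inv_mul_cancel, Units.val_one, Matrix.one_mulVec]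
  set r := α / l with hrdef
  have hr0 : r ≠ 0 := div_ne_zero hα hl0
  have hτr : τ r = r := by
    rw [hrdef, map_div₀, hτl, ← hdet]
    field_simp
    linear_combination hl3
  set a : F₀ := ⟨r, (hR.fixed r).2 hτr⟩
  have ha : a ≠ 0 := fun h => hr0 (congrArg Subtype.val h)
  obtain ⟨T1, T2, T3⟩ := hR.T_apply ha
  have hk'' : (hR.T a ha)⁻¹ * ((zs L)⁻¹ * k) ∈ M := mul_mem (inv_mem (hM.ge (hR.T_mem_H ha))) hk'
  have hv2 : ∀ x y, (k : M3) *ᵥ x = l • ((hR.T a ha : M3) *ᵥ y) →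
      (((hR.T a ha)⁻¹ * ((zs L)⁻¹ * k) : GL (Fin 3) F) : M3) *ᵥ x = y := fun x y h => by
    rw [Units.val_mul, ← Matrix.mulVec_mulVec, hv x _ h, Matrix.mulVec_mulVec, ← Units.val_mul, inv_mul_cancel,
      Units.val_one, Matrix.one_mulVec]
  have f1 := hv2 c c (by rw [T1, hkc, smul_smul, show l * (a : F) = α from mul_div_cancel₀ _ hl0])
  have f2 := hv2 w ((μ / α) • c + w) (by
    rw [Matrix.mulVec_add, Matrix.mulVec_smul, T1, T3, hkw, show (a : F) = α / l from rfl]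
    match_scalars <;> field_simp)
  have f3 := hv2 g ((b / α) • c + (ρ / l) • w + g) (by
    rw [Matrix.mulVec_add, Matrix.mulVec_add, Matrix.mulVec_smul, Matrix.mulVec_smul, T1, T2, T3, hkg,
      show (a : F) = α / l from rfl, ← hdet]
    match_scalars <;> field_simp
    linear_combination -hl3)
  obtain ⟨hρ, he⟩ := unip_eq hR hM hel hk'' f1 f2 f3
  exact ⟨L, a, ⟨ρ / l, hρ⟩, ha, hl, hl3, by rw [← he, mul_inv_cancel_left, mul_inv_cancel_left]⟩

end CfsgLib.Dim3Max.UOrth
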